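import Cfsg.Agent.Lib.InvolCentGLTwoThree.Norms
import Mathlib.Algebra.Order.BigOperators.Ring.Finset
import Mathlib.Tactic.IntervalCases

/-!
Twisted functions on the kernel of an involution centraliser of `GL(2, 3)` type avoid the constituents
of the five exceptional functions.
-/

set_option autoImplicit false
set_option linter.unusedSectionVars false

namespace Cfsg.Agent.SuborbitThree

open Cfsg.Agent.InvolCentGLTwoThree

variable {ι : Type*} [Fintype ι] [DecidableEq ι] {deg A B B' C D : ι → ℤ} {o : ι}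

/-- The named constituents. -/
structure Supports (deg A B B' C D : ι → ℤ) (o X Y Y' Z P Q W : ι) : Prop where
  sX : B X = 1 ∨ B X = -1
  dist : X ≠ o ∧ Y ≠ o ∧ Y' ≠ o ∧ X ≠ Y ∧ X ≠ Y' ∧ Y ≠ Y' ∧ Z ≠ o ∧ Z ≠ X ∧ Z ≠ Y ∧ Z ≠ Y'
  distPQ : P ≠ X ∧ Q ≠ X ∧ P ≠ Q ∧ P ≠ o ∧ P ≠ Y ∧ P ≠ Y' ∧ P ≠ Z ∧ Q ≠ o ∧ Q ≠ Y ∧ Q ≠ Y' ∧ Q ≠ Z
  distW : W ≠ o ∧ W ≠ P ∧ W ≠ Q ∧ W ≠ X ∧ W ≠ Y ∧ W ≠ Y' ∧ W ≠ Z
  offA : ∀ i, i ≠ o → i ≠ X → i ≠ Z → A i = 0
  offB : ∀ i, i ≠ X → i ≠ Y → B i = 0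
  offB' : ∀ i, i ≠ X → i ≠ Y' → B' i = 0
  offC : ∀ i, i ≠ o → i ≠ P → i ≠ W → C i = 0
  offD : ∀ i, i ≠ X → i ≠ P → i ≠ Q → D i = 0
  vals : B Y = -B X ∧ B' X = B X ∧ B' Y' = -B X ∧ A X = B X ∧ D X = B X ∧ C P = -D P
  vZ : A Z = 1 ∨ A Z = -1
  vP : D P = 1 ∨ D P = -1
  vQ : D Q = 1 ∨ D Q = -1
  vW : C W = 1 ∨ C W = -1
  degs : deg Y = deg X ∧ deg Y' = deg X
  relA : 1 + B X * deg X + A Z * deg Z = 0
  relD : B X * deg X + D P * deg P + D Q * deg Q = 0

theorem exists_supports (h : Data deg A B B' C D o) :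
    ∃ X Y Y' Z P Q W, Supports deg A B B' C D o X Y Y' Z P Q W := by
  obtain ⟨X, Y, Y', hXY, hXY', hYY', hs, hBY, hB'X, hB'Y', hdY, hdY', hoffB, hoffB'⟩ := h.exists_shared
  have hXo : X ≠ o := by rintro rfl; rw [h.Bo] at hs; omega
  have hYo : Y ≠ o := by rintro rfl; rw [h.Bo] at hBY; omega
  have hY'o : Y' ≠ o := by rintro rfl; rw [h.B'o] at hB'Y'; omega
  obtain ⟨hvA, hcA⟩ := support_of_norm (f := A) (n := 3) le_rfl (by simpa using h.AA)
  obtain ⟨hvC, hcC⟩ := support_of_norm (f := C) (n := 3) le_rfl (by simpa using h.CC)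
  obtain ⟨hvD, hcD⟩ := support_of_norm (f := D) (n := 3) le_rfl (by simpa using h.DD)
  have key : ∀ f : ι → ℤ, ∀ v : ℤ, ∑ i, f i * B i = v → ∑ i, f i * B' i = v →
      B X * (f X - f Y) = v ∧ B X * (f X - f Y') = v := by
    intro f v h1 h2
    simp only [mul_comm (f _)] at h1 h2
    rw [Data.pair_dot hXY hoffB, hBY] at h1
    rw [Data.pair_dot hXY' hoffB', hB'Y', hB'X] at h2
    exact ⟨by linarith, by linarith⟩
  -- the first function
  obtain ⟨eA, eA'⟩ := key A 1 h.AB h.AB'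
  have hAX : A X = B X ∧ A Y = 0 ∧ A Y' = 0 := by
    rcases eq_or_ne (A X) 0 with hz | hz
    · exfalso
      have hY1 : A Y = -B X := by rcases hs with q | q <;> rw [q] at eA ⊢ <;> omega
      have hY2 : A Y' = -B X := by rcases hs with q | q <;> rw [q] at eA' ⊢ <;> omega
      obtain ⟨c, hc, -, -, hc4⟩ := exists_third hcA (a := Y) (b := Y') (by omega) (by omega) hYY'
      have : c = o := by
        by_contra hne
        have := hc4 o hYo.symm hY'o.symm (Ne.symm hne)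
        rw [h.Ao] at this
        omega
      subst this
      have e := h.A1
      rw [triple_dot hYY' hYo.symm hY'o.symm (fun i h1 h2 h3 => by rw [hc4 i h1 h2 h3, zero_mul]), hY1, hY2,
        h.Ao, h.dego, hdY, hdY'] at e
      rcases hs with q | q <;> rw [q] at e <;> omega
    · have v1 := hvA X
      have v2 := hvA Y
      have v3 := hvA Y'
      rcases hs with q | q <;> rw [q] at eA eA' ⊢ <;> omega
  obtain ⟨hAX, hAY, hAY'⟩ := hAX
  have hBne : B X ≠ 0 := by omega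
  obtain ⟨Z, hAZ, hZo, hZX, hoffA⟩ := exists_third hcA (a := o) (b := X) (by rw [h.Ao]; omega)
    (by rw [hAX]; exact hBne) hXo.symm
  have hZY : Z ≠ Y := by rintro rfl; exact hAZ hAY
  have hZY' : Z ≠ Y' := by rintro rfl; exact hAZ hAY'
  -- the second function
  obtain ⟨eC, eC'⟩ := key C 0 (by rw [← h.BC]; exact Finset.sum_congr rfl fun i _ => mul_comm _ _)
    (by rw [← h.B'C]; exact Finset.sum_congr rfl fun i _ => mul_comm _ _)
  have hCXY : C Y = C X ∧ C Y' = C X := by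
    rcases hs with q | q <;> rw [q] at eC eC' <;> omega
  have hCX : C X = 0 := by
    by_contra hz
    obtain ⟨c, -, -, -, hc4⟩ := exists_third hcC (a := o) (b := X) (by rw [h.Co]; omega) hz hXo.symm
    rcases eq_or_ne Y c with rfl | hne
    · have := hc4 Y' hY'o hXY'.symm hYY'.symm
      omega
    · have := hc4 Y hYo hXY.symm hne
      omega
  have hCZ : C Z = 0 := by
    have e := h.AC
    rw [triple_dot hXo.symm hZo hZX (fun i h1 h2 h3 => by rw [hoffA i h1 h2 h3, zero_mul]), h.Ao, h.Co, hCX,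
      mul_zero, add_zero] at e
    rcases mul_eq_zero.1 (show A Z * C Z = 0 by omega) with q | q
    · exact absurd q hAZ
    · exact q
  -- the third function
  have hAD : A X * D X + A Z * D Z = 1 := by
    have e := h.AD
    rw [triple_dot hXo.symm hZo hZX (fun i h1 h2 h3 => by rw [hoffA i h1 h2 h3, zero_mul]), h.Ao, h.Do] at e
    omega
  have hA1 : 1 + B X * deg X + A Z * deg Z = 0 := by
    have e := h.A1
    rw [triple_dot hXo.symm hZo hZX (fun i h1 h2 h3 => by rw [hoffA i h1 h2 h3, zero_mul]), h.Ao, h.dego,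
      hAX] at e
    omega
  obtain ⟨eD, eD'⟩ := key D 1 h.DB h.DB'
  have hDX : D X = B X ∧ D Y = 0 ∧ D Y' = 0 := by
    rcases eq_or_ne (D X) 0 with hz | hz
    · exfalso
      have hY1 : D Y = -B X := by rcases hs with q | q <;> rw [q] at eD ⊢ <;> omega
      have hY2 : D Y' = -B X := by rcases hs with q | q <;> rw [q] at eD' ⊢ <;> omega
      obtain ⟨c, hc, -, -, hc4⟩ := exists_third hcD (a := Y) (b := Y') (by omega) (by omega) hYY'
      rw [hz, mul_zero, zero_add] at hAD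
      have : c = Z := by
        by_contra hne
        have := hc4 Z hZY hZY' (Ne.symm hne)
        rw [this] at hAD
        omega
      subst this
      have e := h.D1
      rw [triple_dot hYY' hZY hZY' (fun i h1 h2 h3 => by rw [hc4 i h1 h2 h3, zero_mul]), hY1, hY2, hdY,
        hdY'] at e
      have hDA : D c = A c := by
        rcases hvA c with q | q | q <;> rcases hvD c with r | r | r <;> rw [q, r] at hAD ⊢ <;> omega
      rw [hDA] at e
      rcases hs with q | q <;> rw [q] at e hA1 <;> omega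
    · have v1 := hvD X
      have v2 := hvD Y
      have v3 := hvD Y'
      rcases hs with q | q <;> rw [q] at eD eD' ⊢ <;> omega
  obtain ⟨hDX, hDY, hDY'⟩ := hDX
  have hDZ : D Z = 0 := by
    rw [hAX, hDX] at hAD
    have hsq : B X * B X = 1 := by rcases hs with q | q <;> rw [q] <;> norm_num
    rcases mul_eq_zero.1 (show A Z * D Z = 0 by omega) with q | q
    · exact absurd q hAZ
    · exact q
  obtain ⟨P, Q, hDP, hDQ, hPX, hQX, hPQ, hoffD⟩ : ∃ P Q, D P ≠ 0 ∧ D Q ≠ 0 ∧ P ≠ X ∧ Q ≠ X ∧ P ≠ Q ∧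
      ∀ i, i ≠ X → i ≠ P → i ≠ Q → D i = 0 := by
    have hne : ∃ P, P ≠ X ∧ D P ≠ 0 := by
      obtain ⟨P, hP, hPX⟩ := Finset.exists_mem_ne (s := Finset.univ.filter fun i => D i ≠ 0) (by omega) X
      exact ⟨P, hPX, (Finset.mem_filter.1 hP).2⟩
    obtain ⟨P, hPX, hP⟩ := hne
    obtain ⟨Q, hQ, hQX, hQP, hoff⟩ := exists_third hcD (a := X) (b := P) (by rw [hDX]; exact hBne) hP hPX.symm
    exact ⟨P, Q, hP, hQ, hPX, hQX, hQP.symm, hoff⟩
  have hCD : C P * D P + C Q * D Q = -1 := by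
    have e := h.CD
    rw [Finset.sum_congr rfl fun i _ => mul_comm (C i) (D i),
      triple_dot hPX.symm hQX hPQ.symm (fun i h1 h2 h3 => by rw [hoffD i h1 h2 h3, zero_mul]), hCX, mul_zero,
      zero_add, mul_comm (D P), mul_comm (D Q)] at e
    exact e
  obtain ⟨P, Q, hDP, hDQ, hPX, hQX, hPQ, hoffD, hCP, hCQ⟩ : ∃ P Q, D P ≠ 0 ∧ D Q ≠ 0 ∧ P ≠ X ∧ Q ≠ X ∧
      P ≠ Q ∧ (∀ i, i ≠ X → i ≠ P → i ≠ Q → D i = 0) ∧ C P = -D P ∧ C Q = 0 := by
    rcases hvC P with cp | cp | cp <;> rcases hvC Q with cq | cq | cq <;>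
      rcases (hvD P).resolve_left hDP with dp | dp <;> rcases (hvD Q).resolve_left hDQ with dq | dq <;>
      rw [cp, cq, dp, dq] at hCD <;>
      first
        | (exfalso; omega)
        | exact ⟨P, Q, hDP, hDQ, hPX, hQX, hPQ, hoffD, by omega, cq⟩
        | exact ⟨Q, P, hDQ, hDP, hQX, hPX, hPQ.symm, fun i h1 h2 h3 => hoffD i h1 h3 h2, by omega, cp⟩
  have hPn : P ≠ o ∧ P ≠ Y ∧ P ≠ Y' ∧ P ≠ Z := ⟨by rintro rfl; exact hDP h.Do, by rintro rfl; exact hDP hDY,
    by rintro rfl; exact hDP hDY', by rintro rfl; exact hDP hDZ⟩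
  have hQn : Q ≠ o ∧ Q ≠ Y ∧ Q ≠ Y' ∧ Q ≠ Z := ⟨by rintro rfl; exact hDQ h.Do, by rintro rfl; exact hDQ hDY,
    by rintro rfl; exact hDQ hDY', by rintro rfl; exact hDQ hDZ⟩
  have hD1 : B X * deg X + D P * deg P + D Q * deg Q = 0 := by
    have e := h.D1
    rw [triple_dot hPX.symm hQX hPQ.symm (fun i h1 h2 h3 => by rw [hoffD i h1 h2 h3, zero_mul]), hDX] at e
    exact e
  obtain ⟨W, hCW, hWo, hWP, hoffC⟩ := exists_third hcC (a := o) (b := P) (by rw [h.Co]; omega)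
    (by rw [hCP]; omega) hPn.1.symm
  have hne : ∀ i, C i = 0 → W ≠ i := fun i hi e => hCW (e ▸ hi)
  refine ⟨X, Y, Y', Z, P, Q, W, hs, ⟨hXo, hYo, hY'o, hXY, hXY', hYY', hZo, hZX, hZY, hZY'⟩,
    ⟨hPX, hQX, hPQ, hPn.1, hPn.2.1, hPn.2.2.1, hPn.2.2.2, hQn.1, hQn.2.1, hQn.2.2.1, hQn.2.2.2⟩,
    ⟨hWo, hWP, hne Q hCQ, hne X hCX, hne Y (by rw [hCXY.1, hCX]), hne Y' (by rw [hCXY.2, hCX]), hne Z hCZ⟩,
    hoffA, hoffB, hoffB', hoffC, hoffD, ⟨hBY, hB'X, hB'Y', hAX, hDX, hCP⟩, (hvA Z).resolve_left hAZ,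
    (hvD P).resolve_left hDP, (hvD Q).resolve_left hDQ, (hvC W).resolve_left hCW, ⟨hdY, hdY'⟩, hA1, hD1⟩

variable {X Y Y' Z P Q W : ι}

theorem Supports.dotA (S : Supports deg A B B' C D o X Y Y' Z P Q W) (h : Data deg A B B' C D o) (f : ι → ℤ) :
    ∑ i, A i * f i = f o + B X * f X + A Z * f Z := by
  obtain ⟨d1, -, -, -, -, -, d7, d8, -, -⟩ := S.dist
  rw [triple_dot d1.symm d7 d8 (fun i h1 h2 h3 => by rw [S.offA i h1 h2 h3, zero_mul]), h.Ao, one_mul,
    S.vals.2.2.2.1]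

theorem Supports.dotD (S : Supports deg A B B' C D o X Y Y' Z P Q W) (f : ι → ℤ) :
    ∑ i, D i * f i = B X * f X + D P * f P + D Q * f Q := by
  obtain ⟨d1, d2, d3, -⟩ := S.distPQ
  rw [triple_dot d1.symm d2 d3.symm (fun i h1 h2 h3 => by rw [S.offD i h1 h2 h3, zero_mul]), S.vals.2.2.2.2.1]

theorem Supports.dotC (S : Supports deg A B B' C D o X Y Y' Z P Q W) (h : Data deg A B B' C D o) (f : ι → ℤ) :
    ∑ i, C i * f i = f o - D P * f P + C W * f W := by
  obtain ⟨-, -, -, d4, -⟩ := S.distPQ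
  obtain ⟨w1, w2, -⟩ := S.distW
  rw [triple_dot d4.symm w1 w2 (fun i h1 h2 h3 => by rw [S.offC i h1 h2 h3, zero_mul]), h.Co,
    S.vals.2.2.2.2.2]
  ring

/-- Orthogonality conditions on a twisted function. -/
structure Twisted (deg A B B' C D : ι → ℤ) (o : ι) (f : ι → ℤ) : Prop where
  fo : f o = 0
  fA : ∑ i, A i * f i = 0
  fB : ∑ i, B i * f i = 0
  fB' : ∑ i, B' i * f i = 0
  fC : ∑ i, C i * f i = 0
  fD : ∑ i, D i * f i = 0
  f1 : ∑ i, f i * deg i = 0

theorem Supports.small (S : Supports deg A B B' C D o X Y Y' Z P Q W) (h : Data deg A B B' C D o) {f : ι → ℤ}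
    (t : Twisted deg A B B' C D o f) (hn : ∑ i, f i * f i ≤ 4) :
    f X = 0 ∧ f Y = 0 ∧ f Y' = 0 ∧ f Z = 0 ∧ f W = D P * C W * f P ∧ f Q = -(D P * D Q) * f P ∧
      (f P = 0 ∨ f P = 1 ∨ f P = -1) := by
  obtain ⟨-, -, -, d4, d5, d6, -, d8, d9, d10⟩ := S.dist
  obtain ⟨p1, q1, pq, -, p3, p4, p5, -, q3, q4, q5⟩ := S.distPQ
  obtain ⟨-, w2, w3, w4, w5, w6, w7⟩ := S.distW
  have eB := t.fB
  have eB' := t.fB'
  rw [Data.pair_dot d4 S.offB] at eB
  rw [Data.pair_dot d5 S.offB', S.vals.2.1, S.vals.2.2.1] at eB'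
  rw [S.vals.1] at eB
  have eA := t.fA
  rw [S.dotA h, t.fo] at eA
  have eC := t.fC
  rw [S.dotC h, t.fo] at eC
  have eD := t.fD
  rw [S.dotD] at eD
  have hsum : f X * f X + f Y * f Y + f Y' * f Y' + f Z * f Z + f P * f P + f Q * f Q + f W * f W ≤ 4 := by
    have h1 : ∑ i ∈ ({X, Y, Y', Z, P, Q, W} : Finset ι), f i * f i ≤ ∑ i, f i * f i :=
      Finset.sum_le_sum_of_subset_of_nonneg (Finset.subset_univ _) fun i _ _ => mul_self_nonneg _
    rw [Finset.sum_insert (by simp [d4, d5, d8.symm, p1.symm, q1.symm, w4.symm]),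
      Finset.sum_insert (by simp [d6, d9.symm, p3.symm, q3.symm, w5.symm]),
      Finset.sum_insert (by simp [d10.symm, p4.symm, q4.symm, w6.symm]),
      Finset.sum_insert (by simp [p5.symm, q5.symm, w7.symm]),
      Finset.sum_insert (by simp [pq, w2.symm]), Finset.sum_insert (by simp [w3.symm]),
      Finset.sum_singleton] at h1
    linarith
  have hY : f Y = f X ∧ f Y' = f X := by
    rcases S.sX with s | s <;> rw [s] at eB eB' <;> omega
  rw [hY.1, hY.2] at hsum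
  have hZ : f Z * f Z = f X * f X := by
    rcases S.sX with s | s <;> rcases S.vZ with v | v <;> rw [s, v] at eA <;>
      first | (rw [show f Z = f X by omega]) | (rw [show f Z = -f X by omega]; ring)
  have hW : f W = D P * C W * f P := by
    rcases S.vP with s | s <;> rcases S.vW with v | v <;> rw [s, v] at eC ⊢ <;> omega
  have hW2 : f W * f W = f P * f P := by
    rcases S.vP with s | s <;> rcases S.vW with v | v <;> rw [hW, s, v] <;> ring
  rw [hZ, hW2] at hsum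
  have hX : f X = 0 := by
    by_contra hne
    have h1 : 1 ≤ f X * f X := by
      rcases lt_or_gt_of_ne hne with q | q <;> nlinarith
    have h2 : f P = 0 := by
      by_contra hp
      rcases lt_or_gt_of_ne hp with q | q <;> nlinarith
    have h3 : f Q = 0 := by
      by_contra hp
      rcases lt_or_gt_of_ne hp with q | q <;> nlinarith
    rw [h2, h3] at eD
    rcases S.sX with s | s <;> rw [s] at eD <;> omega
  have hQ : f Q = -(D P * D Q) * f P := by
    rw [hX] at eD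
    rcases S.vP with s | s <;> rcases S.vQ with v | v <;> rw [s, v] at eD ⊢ <;> omega
  refine ⟨hX, by rw [hY.1, hX], by rw [hY.2, hX], by nlinarith [hZ, hX], hW, hQ, ?_⟩
  have : -1 ≤ f P ∧ f P ≤ 1 := by
    rw [hX] at hsum
    have h3 : f Q * f Q = f P * f P := by
      rcases S.vP with s | s <;> rcases S.vQ with v | v <;> rw [hQ, s, v] <;> ring
    constructor <;> nlinarith
  omega

/-- The twisted functions of norm 3 and 4 with inner product 2 avoid the constituents of `A` and `D`. -/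
theorem Supports.vanish (S : Supports deg A B B' C D o X Y Y' Z P Q W) (h : Data deg A B B' C D o)
    {φ ψ : ι → ℤ} (tφ : Twisted deg A B B' C D o φ) (tψ : Twisted deg A B B' C D o ψ)
    (hφ : ∑ i, φ i * φ i = 4) (hψ : ∑ i, ψ i * ψ i = 3) (hφψ : ∑ i, φ i * ψ i = 2) :
    ∀ i, (i = X ∨ i = Z ∨ i = P ∨ i = Q) → φ i = 0 ∧ ψ i = 0 := by
  obtain ⟨-, -, pq, p0, -, -, -, q0, -⟩ := S.distPQ
  obtain ⟨-, w2, w3, -⟩ := S.distW
  obtain ⟨a1, a2, a3, a4, a5, a6, a7⟩ := S.small h tφ hφ.le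
  obtain ⟨b1, b2, b3, b4, b5, b6, b7⟩ := S.small h tψ (by omega)
  have hsqW : ∀ u : ℤ, (D P * C W * u) * (D P * C W * u) = u * u := fun u => by
    rcases S.vP with s | s <;> rcases S.vW with v | v <;> rw [s, v] <;> ring
  have hsqQ : ∀ u : ℤ, (-(D P * D Q) * u) * (-(D P * D Q) * u) = u * u := fun u => by
    rcases S.vP with s | s <;> rcases S.vQ with v | v <;> rw [s, v] <;> ring
  have split : ∀ F : ι → ℤ, ∑ i, F i = F P + F Q + F W + ∑ i ∈ Finset.univ \ {P, Q, W}, F i := fun F => by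
    rw [← Finset.sum_sdiff (Finset.subset_univ {P, Q, W}), Finset.sum_insert (by simp [pq, w2.symm]),
      Finset.sum_pair w3.symm]
    ring
  have hψP : ψ P = 0 := by
    by_contra hne
    have e := hψ
    rw [split, b5, b6, hsqW, hsqQ] at e
    have hP2 : ψ P * ψ P = 1 := by rcases b7.resolve_left hne with q | q <;> rw [q] <;> norm_num
    have hz : ∑ i ∈ Finset.univ \ {P, Q, W}, ψ i * ψ i = 0 := by omega
    have hz' : ∀ i ∈ Finset.univ \ {P, Q, W}, ψ i = 0 := fun i hi =>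
      mul_self_eq_zero.1 ((Finset.sum_eq_zero_iff_of_nonneg fun j _ => mul_self_nonneg _).1 hz i hi)
    have e1 := hφψ
    rw [split, Finset.sum_eq_zero fun i hi => by rw [hz' i hi, mul_zero], a5, a6, b5, b6] at e1
    have h3 : φ P * ψ P * 3 = 2 := by
      rcases S.vP with s | s <;> rcases S.vQ with v | v <;> rcases S.vW with w | w <;> rw [s, v, w] at e1 <;>
        linarith
    omega
  have hψQ : ψ Q = 0 := by rw [b6, hψP, mul_zero]
  have hψW : ψ W = 0 := by rw [b5, hψP, mul_zero]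
  have hφP : φ P = 0 := by
    by_contra hne
    have e := hφ
    rw [split, a5, a6, hsqW, hsqQ] at e
    have hP2 : φ P * φ P = 1 := by rcases a7.resolve_left hne with q | q <;> rw [q] <;> norm_num
    have hrest : ∑ i ∈ Finset.univ \ {P, Q, W}, φ i * φ i = 1 := by omega
    have hrest2 : ∑ i ∈ Finset.univ \ {P, Q, W}, ψ i * ψ i = 3 := by
      have e2 := hψ
      rw [split, hψP, hψQ, hψW] at e2
      simpa using e2
    have e3 := hφψ
    rw [split, hψP, hψQ, hψW, mul_zero, mul_zero, mul_zero, zero_add, zero_add, zero_add] at e3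
    have hcs := Finset.sum_mul_sq_le_sq_mul_sq (Finset.univ \ {P, Q, W}) φ ψ
    simp only [sq] at hcs
    rw [e3, hrest, hrest2] at hcs
    omega
  rintro i (rfl | rfl | rfl | rfl)
  · exact ⟨a1, b1⟩
  · exact ⟨a4, b4⟩
  · exact ⟨hφP, hψP⟩
  · exact ⟨by rw [a6, hφP, mul_zero], hψQ⟩

/-- The arithmetic contradiction: all four degrees at least 16 and a Sylow 2-subgroup of order 16. -/
theorem arith_false {x d e N r : ℤ} (hx : 16 ≤ |x|) (hx1 : 16 ≤ |x + 1|) (hd : 16 ≤ |d|) (he : 16 ≤ |e|)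
    (hsum : x + d + e = 0) (h2 : (x + 1 - 9) * (d * e) = (x + 1) * (9 * e + d))
    (h1 : N * ((x - 2) * (x - 2)) = 4608 * r * (x * (x + 1)))
    (hN : N % 32 = 16) (hr : r % 2 = 1) : False := by
  have hd' : d = -x - e := by omega
  subst hd'
  have he1 : e ≠ 1 := by rintro rfl; norm_num at he
  have hq : (e - 1) * ((x - 8) * e + x * (x + 1)) = 0 := by linear_combination -h2
  have hlin : (x - 8) * e + x * (x + 1) = 0 :=
    (mul_eq_zero.1 hq).resolve_left (by omega)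
  have hdvd : (x - 8) ∣ 72 := ⟨-e - x - 9, by linear_combination hlin⟩
  have hle := Int.le_of_dvd (by norm_num) hdvd
  have hle' := Int.le_of_dvd (by norm_num) (neg_dvd.2 hdvd)
  obtain ⟨q, hq72⟩ := hdvd
  rw [abs_eq_max_neg] at hx hx1 hd he
  obtain ⟨u, rfl⟩ : ∃ u, x = u + 8 := ⟨x - 8, by ring⟩
  simp only [add_sub_cancel_right] at hq72 hlin hle hle'
  have hdiv : (72 : ℤ) % u = 0 := by rw [hq72]; exact Int.mul_emod_right _ _
  have hlow : -72 ≤ u := by omega
  interval_cases u <;> omega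

end Cfsg.Agent.SuborbitThree
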