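import Cfsg.Agent.Lib.SuborbitThree.SDCore.CharSetup

/-!
The class multiplication equation on the special classes.
-/

set_option autoImplicit false
set_option linter.style.haveILetI false
set_option linter.unusedSectionVars false

namespace Cfsg.Agent.SuborbitThree

open Cfsg Cfsg.Agent InvolCentGLTwoThree
open scoped Classical ComplexConjugate

universe u

variable {G : Type u} [Group G] [Fintype G] (K : Core G)

theorem sol_facts : ∀ h : M, Special h → ∀ u ∈ solutions h, dt u ≠ 1 ∧ dt (u * h) ≠ 1 ∧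
    u * u = 1 ∧ (u * h) * (u * h) = 1 := by decide +kernel

/-- A lift of a reflection is an involution. -/
theorem Core.lift_sq {u : K.X} (hd : dt (K.π u) ≠ 1) (h2 : K.π u * K.π u = 1) : u * u = 1 := by
  have hk : u * u ∈ K.π.ker := by rw [MonoidHom.mem_ker, map_mul, h2]
  have h := K.inv u hd _ hk
  rw [show u * (u * u) * u⁻¹ = u * u by group] at h
  have hsq : (u * u) ^ 2 = 1 := by
    rw [pow_two]
    calc u * u * (u * u) = u * u * (u * u)⁻¹ := by rw [← h]
      _ = 1 := mul_inv_cancel _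
  have h2' : (⟨u * u, hk⟩ : K.π.ker) ^ 2 = 1 := Subtype.ext hsq
  have := orderOf_eq_one_iff.1 (Nat.eq_one_of_dvd_coprimes (Nat.coprime_two_left.2 K.odd)
    (orderOf_dvd_of_pow_eq_one h2') (orderOf_dvd_natCard _))
  exact congrArg Subtype.val this

theorem Core.isConj_of_sq {g : G} (h2 : g * g = 1) (h1 : g ≠ 1) : IsConj K.c g :=
  K.one g (orderOf_eq_prime (by rw [sq]; exact h2) h1)

theorem Core.card_pairs (x : K.X) (hx : Special (K.π x)) :
    (pairs K.c (x : G)).card = (48 * K.r) * (48 * K.r) * (K.r * (solutions (K.π x)).card) := by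
  set T : Finset G := (Finset.univ.filter fun u : K.X => K.π u ∈ solutions (K.π x)).map
    ⟨Subtype.val, Subtype.val_injective⟩ with hT
  have hTcard : T.card = K.r * (solutions (K.π x)).card := by
    rw [hT, Finset.card_map, Finset.card_filter, sum_comp_hom K.π K.surj
      fun h => if h ∈ solutions (K.π x) then 1 else 0, ← Finset.card_filter, smul_eq_mul, ← Core.r]
    congr 2
    ext h
    simp
  have hcc : K.c * K.c = 1 := by rw [← sq, ← K.hc, pow_orderOf_eq_one]
  have hsq : ∀ a : G, a * K.c * a⁻¹ * (a * K.c * a⁻¹) = 1 := fun a => by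
    rw [show a * K.c * a⁻¹ * (a * K.c * a⁻¹) = a * (K.c * K.c) * a⁻¹ by group, hcc]; group
  have hne1 : ∀ a : G, a * K.c * a⁻¹ ≠ 1 := fun a h => by
    rw [conj_eq_one_iff] at h
    have := K.hc
    rw [h, orderOf_one] at this
    omega
  rw [← hTcard, mul_comm _ T.card,
    Finset.card_eq_sum_card_fiberwise (s := pairs K.c (x : G)) (f := fun p : G × G => p.1 * K.c * p.1⁻¹) (t := T) ?_]
  · rw [Finset.sum_congr rfl fun g hg => (?_ : _ = 48 * K.r * (48 * K.r)), Finset.sum_const, smul_eq_mul]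
    obtain ⟨u, hu, rfl⟩ := Finset.mem_map.1 hg
    obtain ⟨hd1, hd2, hs1, hs2⟩ := sol_facts _ hx _ (Finset.mem_filter.1 hu).2
    have hne : ∀ w : K.X, dt (K.π w) ≠ 1 → (w : G) ≠ 1 := fun w hw h => by
      rw [show w = 1 from Subtype.ext h, map_one] at hw
      exact hw (by decide)
    have hu2 : (u : G) * u = 1 := congrArg Subtype.val (K.lift_sq hd1 hs1)
    have c1 : IsConj K.c (u : G) := K.isConj_of_sq hu2 (hne u hd1)
    have c2 : IsConj K.c ((u : G) * x) := K.isConj_of_sq
      (congrArg Subtype.val (K.lift_sq (u := u * x) (by rw [map_mul]; exact hd2) (by rw [map_mul]; exact hs2)))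
      (hne (u * x) (by rw [map_mul]; exact hd2))
    calc _ = ((Finset.univ.filter fun a : G => a * K.c * a⁻¹ = (u : G)) ×ˢ
          (Finset.univ.filter fun a : G => a * K.c * a⁻¹ = (u : G) * x)).card := by
          congr 1
          ext p
          simp only [pairs, Finset.mem_filter, Finset.mem_univ, true_and, Finset.mem_product,
            Function.Embedding.coeFn_mk]
          constructor
          · rintro ⟨h1, h2⟩
            refine ⟨h2, ?_⟩
            rw [← h1, h2, ← mul_assoc, hu2, one_mul]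
          · rintro ⟨h1, h2⟩
            rw [h1, h2, ← mul_assoc, hu2, one_mul]
            exact ⟨rfl, rfl⟩
      _ = 48 * K.r * (48 * K.r) := by
          rw [Finset.card_product, FivePairs.card_conjugators K.c c1, FivePairs.card_conjugators K.c c2, K.card_X]
  · intro p hp
    have hp' : p.1 * K.c * p.1⁻¹ * (p.2 * K.c * p.2⁻¹) = x := (Finset.mem_filter.1 (Finset.mem_coe.1 hp)).2
    set u := p.1 * K.c * p.1⁻¹
    set v := p.2 * K.c * p.2⁻¹
    have huinv : u⁻¹ = u := inv_eq_of_mul_eq_one_right (hsq p.1)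
    have hvu : u * (x : G) = v := by rw [← hp', ← mul_assoc, hsq, one_mul]
    have hconj : u * (x : G) * u⁻¹ = (x : G)⁻¹ := by
      have hvinv : v⁻¹ = v := inv_eq_of_mul_eq_one_right (hsq p.2)
      rw [hvu, huinv, ← hp', mul_inv_rev, hvinv, huinv]
    have huX : u ∈ K.X := by
      obtain ⟨i, hi⟩ := K.c_mem_zpowers hx
      have hm : u * K.c * u⁻¹ ∈ Subgroup.zpowers (x : G) := by
        rw [← hi, show u * (fun y => (x : G) ^ y) i * u⁻¹ = u * (x : G) ^ i * u⁻¹ from rfl, ← conj_zpow, hconj,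
          inv_zpow]
        exact inv_mem (zpow_mem (Subgroup.mem_zpowers _) _)
      have ho : orderOf (u * K.c * u⁻¹) = 2 := by rw [← K.hc]; exact (MulAut.conj u).orderOf_eq K.c
      exact Subgroup.mem_centralizer_singleton_iff.2 (mul_inv_eq_iff_eq_mul.1
        (EvenCyclicNorm.involution_unique ho K.hc hm (K.c_mem_zpowers hx)))
    set u' : K.X := ⟨u, huX⟩
    have hu'2 : u' * u' = 1 := Subtype.ext (hsq p.1)
    have hone : ∀ w : K.X, w * w = 1 → K.π w = 1 → w = 1 := fun w hw hw1 => by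
      have h2 : (⟨w, hw1⟩ : K.π.ker) ^ 2 = 1 := Subtype.ext (by rw [pow_two]; exact hw)
      exact congrArg Subtype.val (orderOf_eq_one_iff.1 (Nat.eq_one_of_dvd_coprimes (Nat.coprime_two_left.2 K.odd)
        (orderOf_dvd_of_pow_eq_one h2) (orderOf_dvd_natCard _)))
    refine Finset.mem_coe.2 (Finset.mem_map.2 ⟨u', Finset.mem_filter.2 ⟨Finset.mem_univ _,
      Finset.mem_filter.2 ⟨Finset.mem_univ _, ?_, ?_, ?_, ?_⟩⟩, rfl⟩)
    · rw [← map_mul, hu'2, map_one]
    · exact fun h => hne1 p.1 (congrArg Subtype.val (hone u' hu'2 h))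
    · rw [← map_mul, ← map_mul, ← map_inv]
      refine congrArg K.π (Subtype.ext ?_)
      show u * (x : G) * u = (x : G)⁻¹
      conv_lhs => rw [show u * (x : G) * u = u * (x : G) * u⁻¹⁻¹ by rw [inv_inv], huinv]
      exact hconj
    · intro h
      rw [← map_mul] at h
      refine hne1 p.2 ?_
      have h3 := hone (u' * x) (Subtype.ext ?_) h
      · show v = 1
        rw [← hvu]; exact congrArg Subtype.val h3
      · show u * (x : G) * (u * (x : G)) = 1
        rw [hvu]; exact hsq p.2

theorem Core.weighted {F : M → ℤ√(-2)} (hF : ∀ h, ¬ Special h → F h = 0)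
    (hcount : (∑ h : M, F h * ((solutions h).card : ℤ√(-2))) = 96) :
    ∑ χ : IrrCharacter G, classInner (K.nu F) χ.1 * (χ.1 K.c * χ.1 K.c / χ.1 1) =
      4608 * (K.r : ℂ) ^ 3 / (Nat.card G : ℂ) := by
  have hG : (Nat.card G : ℂ) ≠ 0 := Nat.cast_ne_zero.2 Nat.card_pos.ne'
  have hr : (K.r : ℂ) ≠ 0 := Nat.cast_ne_zero.2 K.r_pos.ne'
  simp only [Core.coeff, Finset.mul_sum, Finset.sum_mul]
  rw [Finset.sum_comm]
  have key : ∀ k : K.X, ∑ χ : IrrCharacter G, (48 * K.r : ℂ)⁻¹ * (emb (F (K.π k)) *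
      conj (χ.1 (k : G))) * (χ.1 K.c * χ.1 K.c / χ.1 1) =
      (48 * K.r : ℂ) * (K.r : ℂ) / (Nat.card G : ℂ) * emb (F (K.π k) * ((solutions (K.π k)).card : ℤ√(-2))) := by
    intro k
    by_cases hk : Special (K.π k)
    · have h := Char.card_conj_mul_conj_eq K.c K.c (k : G)
      rw [Nat.card_eq_fintype_card (α := {p : G × G // _}), Fintype.card_subtype,
        show (Finset.univ.filter fun p : G × G => p.1 * K.c * p.1⁻¹ * (p.2 * K.c * p.2⁻¹) = (k : G)) =
          pairs K.c _ from rfl, K.card_pairs k hk] at h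
      push_cast at h
      rw [map_mul, map_natCast]
      rw [show (∑ χ : IrrCharacter G, χ.1 K.c * χ.1 K.c * χ.1 (k : G)⁻¹ / χ.1 1) =
        ∑ χ : IrrCharacter G, χ.1 K.c ^ 2 * χ.1 (k : G)⁻¹ / χ.1 1 from
          Finset.sum_congr rfl fun χ _ => by rw [sq]] at h
      calc _ = (48 * K.r : ℂ)⁻¹ * emb (F (K.π k)) * ∑ χ : IrrCharacter G,
            χ.1 K.c ^ 2 * χ.1 (k : G)⁻¹ / χ.1 1 := by
            rw [Finset.mul_sum]
            refine Finset.sum_congr rfl fun χ _ => ?_
            rw [Char.IsCharacter.conj_apply (Char.irr_isCharacter χ)]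
            ring
        _ = _ := by
            field_simp
            linear_combination -(emb (F (K.π k))) * h
    · simp [hF _ hk]
  rw [Finset.sum_congr rfl fun k _ => key k, ← Finset.mul_sum, ← map_sum,
    sum_comp_hom K.π K.surj fun h => F h * ((solutions h).card : ℤ√(-2)), hcount, map_nsmul, map_ofNat,
    nsmul_eq_mul, ← Core.r]
  field_simp
  ring

end Cfsg.Agent.SuborbitThree
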