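import Cfsg.Agent.Lib.SuborbitThree.SDCore.Linear
import Cfsg.Agent.Lib.SuborbitThree.SDCore.Weighted
import Cfsg.Agent.Lib.SuborbitThree.SDCore.Combi
import Cfsg.Agent.Lib.Char.Orthogonality
import Cfsg.Agent.S2916

/-!
The odd core of the involution centraliser is trivial.
-/

set_option autoImplicit false
set_option linter.style.haveILetI false
set_option linter.unusedSectionVars false

namespace Cfsg.Agent.SuborbitThree

open Cfsg Cfsg.Agent InvolCentGLTwoThree
open scoped Classical ComplexConjugate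

universe u

variable {G : Type u} [Group G] [Fintype G] (K : Core G)

/-- Orthogonality of a character to all twisted functions. -/
def Core.Orth (χ : IrrCharacter G) : Prop :=
  ∀ β : K.X1 →* ℂ, K.Nontriv β →
    (∑ x : K.X1, β x * emb (fA (K.p1 x)) * conj (χ.1 (x : G))) = 0 ∧
    (∑ x : K.X1, β x * emb (fB (K.p1 x)) * conj (χ.1 (x : G))) = 0

theorem Core.nontriv_mul_omega {β : K.X1 →* ℂ} (hβ : K.Nontriv β) (j : ℕ) :
    K.Nontriv (β * K.omega ^ j) := by
  obtain ⟨y, hy, hy1⟩ := hβ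
  refine ⟨y, hy, ?_⟩
  rw [MonoidHom.mul_apply, MonoidHom.pow_apply, K.omega_ker hy, one_pow, mul_one]
  exact hy1

/-- Vanishing over the central element. -/
theorem Core.Orth.sum_z {χ : IrrCharacter G} (hχ : K.Orth χ) {β : K.X1 →* ℂ} (hβ : K.Nontriv β) :
    ∑ x ∈ Finset.univ.filter (fun x : K.X1 => K.p1 x = z), β x * conj (χ.1 (x : G)) = 0 := by
  have h0 := (hχ _ (K.nontriv_mul_omega hβ 0)).2
  have h1 := (hχ _ (K.nontriv_mul_omega hβ 1)).2
  have h2 := (hχ _ (K.nontriv_mul_omega hβ 2)).2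
  have hA := (hχ β hβ).1
  have hpoint : ∀ x : K.X1, (2 * ((β * K.omega ^ 0) x * emb (fB (K.p1 x)) * conj (χ.1 (x : G))) +
      2 * ((β * K.omega ^ 1) x * emb (fB (K.p1 x)) * conj (χ.1 (x : G))) +
      2 * ((β * K.omega ^ 2) x * emb (fB (K.p1 x)) * conj (χ.1 (x : G))) -
      3 * (β x * emb (fA (K.p1 x)) * conj (χ.1 (x : G)))) =
      24 * (if K.p1 x = z then β x * conj (χ.1 (x : G)) else 0) := by
    intro x
    have hi := congrArg emb (indicator_z1 (K.p1 x) (K.dt_X1 x))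
    simp only [map_sub, map_mul, map_ofNat, apply_ite emb, map_zero] at hi
    have hw := K.omega_sum x
    simp only [MonoidHom.mul_apply, MonoidHom.pow_apply]
    by_cases h3 : w3 (K.p1 x) = 0
    · rw [if_pos h3] at hw hi
      by_cases hz : K.p1 x = z
      · rw [if_pos hz] at hi ⊢
        linear_combination (2 * β x * emb (fB (K.p1 x)) * conj (χ.1 (x : G))) * hw + (β x * conj (χ.1 (x : G))) * hi
      · rw [if_neg hz] at hi ⊢
        linear_combination (2 * β x * emb (fB (K.p1 x)) * conj (χ.1 (x : G))) * hw + (β x * conj (χ.1 (x : G))) * hi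
    · rw [if_neg h3] at hw hi
      by_cases hz : K.p1 x = z
      · rw [if_pos hz] at hi ⊢
        linear_combination (2 * β x * emb (fB (K.p1 x)) * conj (χ.1 (x : G))) * hw + (β x * conj (χ.1 (x : G))) * hi
      · rw [if_neg hz] at hi ⊢
        linear_combination (2 * β x * emb (fB (K.p1 x)) * conj (χ.1 (x : G))) * hw + (β x * conj (χ.1 (x : G))) * hi
  have := Finset.sum_congr (rfl : (Finset.univ : Finset K.X1) = Finset.univ) fun x _ => hpoint x
  simp only [Finset.sum_sub_distrib, Finset.sum_add_distrib, ← Finset.mul_sum, h0, h1, h2, hA, mul_zero, add_zero,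
    sub_zero, ← Finset.sum_filter] at this
  exact (mul_eq_zero.1 this.symm).resolve_left (by norm_num)

theorem Core.ker_comm : ∀ a b : K.p1.ker, a * b = b * a := fun a b => Subtype.ext (K.central b.2 a)

/-- An irreducible character of the core as the restriction of a linear one. -/
theorem Core.exists_beta (ψ : IrrCharacter K.p1.ker) :
    ∃ β : K.X1 →* ℂ, (∀ y : K.p1.ker, β (y : K.X1) = ψ.1 y) ∧
      (ψ ≠ Char.trivialChar K.p1.ker → K.Nontriv β) := by
  obtain ⟨μ, hμ⟩ := Char.IsCharacter.exists_monoidHom (Char.irr_isCharacter ψ)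
    (Char.apply_one_of_comm K.ker_comm ψ)
  obtain ⟨β, hβ⟩ := K.exists_extend μ
  refine ⟨β, fun y => (hβ y).trans (congrFun hμ y), fun hne => ?_⟩
  by_contra hcon
  apply hne
  refine Subtype.ext (funext fun y => ?_)
  rw [Char.trivialChar_apply, ← hμ, ← hβ]
  by_contra h
  exact hcon ⟨(y : K.X1), MonoidHom.mem_ker.1 y.2, h⟩

/-- `c` in `X1`. -/
def Core.c1 : K.X1 :=
  ⟨K.c, (K.mem_X1_iff ⟨K.c, Subgroup.mem_centralizer_singleton_iff.2 rfl⟩).2 (by rw [K.map_c]; decide)⟩

theorem Core.p1_c1 : K.p1 K.c1 = z := K.map_c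

theorem Core.sum_fibre (f : K.X1 → ℂ) (x₀ : K.X1) :
    ∑ x ∈ Finset.univ.filter (fun x : K.X1 => K.p1 x = K.p1 x₀), f x =
      ∑ y : K.p1.ker, f (x₀ * (y : K.X1)) := by
  refine Finset.sum_bij'
    (fun x hx => (⟨x₀⁻¹ * x, by
      rw [MonoidHom.mem_ker, map_mul, map_inv, (Finset.mem_filter.1 hx).2, inv_mul_cancel]⟩ : K.p1.ker))
    (fun y _ => x₀ * (y : K.X1)) (fun _ _ => Finset.mem_univ _)
    (fun y _ => Finset.mem_filter.2 ⟨Finset.mem_univ _, by rw [map_mul, MonoidHom.mem_ker.1 y.2, mul_one]⟩)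
    (fun x _ => by simp) (fun y _ => Subtype.ext (by simp)) (fun x _ => by simp)

/-- The values on the coset of the core through `c` are constant. -/
theorem Core.Orth.const {χ : IrrCharacter G} (hχ : K.Orth χ) (y : K.p1.ker) :
    χ.1 (((K.c1 * (y : K.X1) : K.X1)) : G) = χ.1 K.c := by
  set g : K.p1.ker → ℂ := fun y => χ.1 (((K.c1 * (y : K.X1) : K.X1)) : G)
  have hg : IsClassFunction K.p1.ker g := fun a b => by
    rw [show b * a * b⁻¹ = a by rw [K.ker_comm b a, mul_inv_cancel_right]]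
  have hzero : ∀ ψ : IrrCharacter K.p1.ker, ψ ≠ Char.trivialChar _ → classInner g ψ.1 = 0 := by
    intro ψ hne
    obtain ⟨β, hβ, hnt⟩ := K.exists_beta ψ
    have h := hχ.sum_z K (hnt hne)
    rw [← K.p1_c1, K.sum_fibre] at h
    simp only [map_mul, hβ, mul_assoc, ← Finset.mul_sum] at h
    have hb : β K.c1 ≠ 0 := by
      intro q
      have := Char.normSq_linear β K.c1
      rw [q, zero_mul] at this
      exact zero_ne_one this
    have h' := (mul_eq_zero.1 h).resolve_left hb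
    rw [classInner]
    refine mul_eq_zero_of_right _ ?_
    have h'' := congrArg conj h'
    rw [map_sum, map_zero] at h''
    rw [← h'']
    exact Finset.sum_congr rfl fun w _ => by
      show χ.1 _ * conj (ψ.1 w) = _
      rw [map_mul, Complex.conj_conj, mul_comm]
  have e := Char.eq_sum_classInner_smul hg
  have hval : ∀ w, g w = classInner g (Char.trivialChar K.p1.ker).1 := fun w => by
    have := congrFun e w
    rw [Finset.sum_apply, Finset.sum_eq_single (Char.trivialChar K.p1.ker)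
      (fun ψ _ hne => by rw [hzero ψ hne, zero_smul]; rfl) (fun h => absurd (Finset.mem_univ _) h)] at this
    rw [this, Pi.smul_apply, Char.trivialChar_apply, smul_eq_mul, mul_one]
  have h1 := hval 1
  rw [← hval y] at h1
  refine h1.symm.trans ?_
  show χ.1 (((K.c1 * 1 : K.X1)) : G) = _
  rw [mul_one]
  rfl

theorem q8_sum : ∀ h : M, dt h = 1 →
    (if w3 h = 0 then 4 else 0) = (if h = 1 then 4 else 0) + (if h = z then 4 else 0) + fA h := by decide +kernel

/-- Elements of `X1` over the quaternion group. -/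
def Core.X0 : Subgroup K.X1 where
  carrier := {x | w3 (K.p1 x) = 0}
  one_mem' := by show w3 (K.p1 1) = 0; rw [map_one, w3_facts.1]
  mul_mem' := fun {a b} (ha : w3 (K.p1 a) = 0) (hb : w3 (K.p1 b) = 0) => by
    show w3 (K.p1 (a * b)) = 0
    rw [map_mul, w3_mul (K.p1 a) (K.p1 b) (K.dt_X1 a) (K.dt_X1 b), ha, hb]
  inv_mem' := fun {a} (ha : w3 (K.p1 a) = 0) => by
    show w3 (K.p1 a⁻¹) = 0
    rw [map_inv]
    exact (by decide +kernel : ∀ h : M, dt h = 1 → w3 h = 0 → w3 h⁻¹ = 0) _ (K.dt_X1 a) ha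

theorem Core.card_X0 : Nat.card K.X0 = 8 * K.r := by
  rw [Nat.card_eq_fintype_card, Fintype.card_subtype,
    show (Finset.univ.filter fun x : K.X1 => x ∈ K.X0) = Finset.univ.filter fun x : K.X1 => w3 (K.p1 x) = 0 from
      Finset.filter_congr fun _ _ => Iff.rfl,
    Finset.card_filter,
    show (∑ x : K.X1, if w3 (K.p1 x) = 0 then 1 else 0) =
      K.r • ∑ h ∈ Finset.univ.filter (fun h : M => dt h = 1), (if w3 h = 0 then 1 else 0) from
        K.sum_X1 fun h => if w3 h = 0 then 1 else 0,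
    show (∑ h ∈ Finset.univ.filter (fun h : M => dt h = 1), (if w3 h = 0 then 1 else 0)) = 8 by decide +kernel,
    smul_eq_mul, mul_comm]

/-- The degree of an orthogonal character, faithful on a non-trivial core. -/
theorem Core.Orth.degree [IsSimpleGroup G] (hr : K.r ≠ 1) {χ : IrrCharacter G} (hχ : K.Orth χ)
    (hne : χ ≠ Char.trivialChar G) {n : ℕ} (hn : χ.1 1 = n) : 16 ≤ n := by
  set res : K.p1.ker → ℂ := fun y => χ.1 (((y : K.X1)) : G)
  have hres : IsCharacter K.p1.ker res :=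
    Char.IsCharacter.restrict (Char.IsCharacter.restrict (Char.irr_isCharacter χ) K.X1) K.p1.ker
  obtain ⟨m, hm, hm'⟩ := Char.IsCharacter.exists_decomp hres
  -- some non-trivial constituent
  obtain ⟨ψ, hψ, hmψ⟩ : ∃ ψ : IrrCharacter K.p1.ker, ψ ≠ Char.trivialChar _ ∧ m ψ ≠ 0 := by
    by_contra hcon
    push Not at hcon
    have hconst : ∀ y : K.p1.ker, res y = m (Char.trivialChar _) := fun y => by
      rw [hm, Finset.sum_apply, Finset.sum_eq_single (Char.trivialChar K.p1.ker)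
        (fun ψ _ hne => by rw [hcon ψ hne, Nat.cast_zero, zero_smul]; rfl) (fun h => absurd (Finset.mem_univ _) h),
        Pi.smul_apply, Char.trivialChar_apply, smul_eq_mul, mul_one]
    haveI : Nontrivial K.p1.ker := Finite.one_lt_card_iff_nontrivial.1 (by
      rw [K.card_ker_p1]; have := K.r_pos; omega)
    obtain ⟨y, hy⟩ := exists_ne (1 : K.p1.ker)
    have hk : ((y : K.X1) : G) ∈ CharInt.charKernel (Char.irr_isCharacter χ) := by
      rw [CharInt.mem_charKernel]
      exact (hconst y).trans (hconst 1).symm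
    rcases Subgroup.Normal.eq_bot_or_eq_top (CharInt.charKernel_normal (Char.irr_isCharacter χ)) with q | q
    · rw [q, Subgroup.mem_bot] at hk
      exact hy (Subtype.ext (Subtype.ext hk))
    · refine hne ?_
      have hall : ∀ g, χ.1 g = χ.1 1 := fun g => by
        rw [← CharInt.mem_charKernel (h := Char.irr_isCharacter χ), q]; exact Subgroup.mem_top g
      by_contra hne'
      have h0 : classInner χ.1 (Char.trivialChar G).1 = 0 := by
        rw [Char.classInner_irr, if_neg hne']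
      rw [classInner] at h0
      simp only [hall, Char.trivialChar_apply, map_one, mul_one, Finset.sum_const, nsmul_eq_mul] at h0
      have hG : (Nat.card G : ℂ) ≠ 0 := Nat.cast_ne_zero.2 Nat.card_pos.ne'
      rw [Finset.card_univ, ← Nat.card_eq_fintype_card, inv_mul_cancel_left₀ hG] at h0
      exact CharInt.irr_one_ne_zero χ.2 h0
  obtain ⟨β, hβ, hnt⟩ := K.exists_beta ψ
  have hnt := hnt hψ
  have h8 : ∀ {β : K.X1 →* ℂ}, K.Nontriv β → ∀ {ψ : IrrCharacter K.p1.ker},
      (∀ y : K.p1.ker, β (y : K.X1) = ψ.1 y) → 8 ∣ m ψ := by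
    intro β hnt ψ hβ
    have hA := (hχ β hnt).1
    have hz := hχ.sum_z K hnt
    have hsum : ∑ x : K.X0, β (x : K.X1) * conj (χ.1 ((x : K.X1) : G)) =
        ∑ y : K.p1.ker, ψ.1 y * conj (res y) := by
      have hpoint : ∀ x : K.X1, 4 * (if w3 (K.p1 x) = 0 then β x * conj (χ.1 (x : G)) else 0) =
          4 * (if K.p1 x = 1 then β x * conj (χ.1 (x : G)) else 0) +
          4 * (if K.p1 x = z then β x * conj (χ.1 (x : G)) else 0) +
          β x * emb (fA (K.p1 x)) * conj (χ.1 (x : G)) := fun x => by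
        have hq := congrArg emb (q8_sum (K.p1 x) (K.dt_X1 x))
        simp only [map_add, apply_ite emb, map_ofNat, map_zero] at hq
        have e : ∀ (P : Prop) [Decidable P] (a : ℂ), 4 * (if P then a else 0) = (if P then 4 else 0) * a := by
          intro P _ a; split_ifs <;> ring
        rw [e, e, e, hq]
        ring
      have h4 := Finset.sum_congr (rfl : (Finset.univ : Finset K.X1) = Finset.univ) fun x _ => hpoint x
      simp only [Finset.sum_add_distrib, ← Finset.mul_sum, ← Finset.sum_filter, hz, hA, mul_zero, add_zero] at h4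
      have h5 := mul_left_cancel₀ (by norm_num : (4 : ℂ) ≠ 0) h4
      rw [show (1 : M) = K.p1 1 from (map_one _).symm, K.sum_fibre] at h5
      rw [← Finset.sum_subtype (Finset.univ.filter fun x : K.X1 => w3 (K.p1 x) = 0)
        (fun x => by simp [Core.X0]) (fun x : K.X1 => β x * conj (χ.1 (x : G))), h5]
      exact Finset.sum_congr rfl fun y _ => by rw [one_mul, hβ]
    obtain ⟨t, ht⟩ := Char.IsCharacter.exists_nat_classInner
      (Char.IsCharacter.restrict (Char.IsIrrCharacter.isCharacter (Char.isIrrCharacter_of_monoidHom β)) K.X0)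
      (Char.IsCharacter.restrict (Char.IsCharacter.restrict (Char.irr_isCharacter χ) K.X1) K.X0)
    refine ⟨t, ?_⟩
    have hr0 : (K.r : ℂ) ≠ 0 := Nat.cast_ne_zero.2 K.r_pos.ne'
    have hmψ : classInner ψ.1 res = (m ψ : ℂ) := by rw [← Char.conj_classInner, hm', map_natCast]
    rw [classInner, K.card_X0, hsum] at ht
    rw [classInner, K.card_ker_p1] at hmψ
    have : (m ψ : ℂ) = ((8 * t : ℕ) : ℂ) := by
      rw [← hmψ]
      push_cast at ht ⊢
      rw [← ht]
      field_simp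
    exact_mod_cast this
  -- the conjugate constituent
  obtain ⟨g₀, hg₀⟩ := K.surj s₀
  set ψ' : IrrCharacter K.p1.ker := ⟨fun y => conj (ψ.1 y), Char.IsIrrCharacter.conj_fun ψ.2⟩
  have hflip : ∀ y : K.p1.ker, res y⁻¹ = res y := fun y => by
    have h := K.inv g₀ (by rw [hg₀]; decide) (K.inX (y : K.X1)) y.2
    have hG' : (g₀ : G) * (((y : K.X1)) : G) * (g₀ : G)⁻¹ = ((((y⁻¹ : K.p1.ker) : K.X1)) : G) := congrArg Subtype.val h
    show χ.1 _ = χ.1 _
    rw [← hG', CharInt.char_conj_apply (Char.irr_isCharacter χ)]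
  have hm2 : m ψ' = m ψ := by
    have : (m ψ' : ℂ) = (m ψ : ℂ) := by
      rw [← hm', ← hm', classInner, classInner]
      congr 1
      refine Fintype.sum_equiv (Equiv.inv _) _ _ fun y => ?_
      rw [Equiv.inv_apply, hflip]
      congr 1
      rw [← Char.IsCharacter.conj_apply (Char.irr_isCharacter ψ) y]
    exact_mod_cast this
  have hdist : ψ' ≠ ψ := fun q => by
    obtain ⟨y, hy, hy1⟩ := hnt
    refine K.sq_ne_one hy hy1 ?_
    have h := congrFun (congrArg Subtype.val q) ⟨y, hy⟩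
    have hn2 := Char.normSq_linear β y
    rw [show β y = ψ.1 ⟨y, hy⟩ from hβ ⟨y, hy⟩] at hn2 ⊢
    rwa [show conj (ψ.1 ⟨y, hy⟩) = ψ.1 ⟨y, hy⟩ from h] at hn2
  have hdeg : (n : ℂ) = ∑ φ : IrrCharacter K.p1.ker, (m φ : ℂ) := by
    rw [← hn, show χ.1 1 = res 1 from rfl, hm, Finset.sum_apply]
    exact Finset.sum_congr rfl fun φ _ => by
      rw [Pi.smul_apply, Char.apply_one_of_comm K.ker_comm φ, smul_eq_mul, mul_one]
  have hdeg' : n = ∑ φ : IrrCharacter K.p1.ker, m φ := by exact_mod_cast hdeg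
  have h2 : m ψ + m ψ' ≤ n := by
    rw [hdeg', ← Finset.sum_pair hdist.symm]
    exact Finset.sum_le_sum_of_subset (Finset.subset_univ _)
  have := Nat.le_of_dvd (Nat.pos_of_ne_zero hmψ) (h8 hnt hβ)
  omega

/-- **The odd core is trivial.** -/
theorem Core.r_eq_one [IsSimpleGroup G] (hns : ¬ Group.IsSolvable G) : K.r = 1 := by
  by_contra hr1
  have hnc : ¬ ∀ a b : G, a * b = b * a := fun h => hns (Group.isSolvable_of_comm h)
  have sA : ∀ h, ¬ Special h → fA h = 0 := fun h hh => (tab_support h hh).1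
  have sB : ∀ h, ¬ Special h → fB h = 0 := fun h hh => (tab_support h hh).2.1
  have sB' : ∀ h, ¬ Special h → fB' h = 0 := fun h hh => (tab_support h hh).2.2.1
  have sC : ∀ h, ¬ Special h → fC h = 0 := fun h hh => (tab_support h hh).2.2.2.1
  have sD : ∀ h, ¬ Special h → fD h = 0 := fun h hh => (tab_support h hh).2.2.2.2
  have decomp : ∀ {f : G → ℂ}, IsGeneralizedCharacter G f →
      ∃ m : IrrCharacter G → ℤ, f = ∑ ψ, (m ψ : ℂ) • ψ.1 ∧ ∀ ψ, classInner f ψ.1 = m ψ :=
    fun hf => Char.IsGeneralizedCharacter.exists_decomp hf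
  have mult : ∀ {F : M → ℤ√(-2)}, IsGeneralizedCharacter M (fun h => emb (F h)) →
      ∃ m : IrrCharacter G → ℤ, K.nu F = ∑ ψ, (m ψ : ℂ) • ψ.1 ∧ ∀ ψ, classInner (K.nu F) ψ.1 = m ψ :=
    fun hF => decomp (Char.isGeneralizedCharacter_indFun _ (K.isGen_lift hF))
  obtain ⟨mA, dA, cA⟩ := mult isGen_fA
  obtain ⟨mB, dB, cB⟩ := mult isGen_fB
  obtain ⟨mB', dB', cB'⟩ := mult isGen_fB'
  obtain ⟨mC, dC, cC⟩ := mult isGen_fC
  obtain ⟨mD, dD, cD⟩ := mult isGen_fD
  have dot : ∀ {f f' : G → ℂ} {m m' : IrrCharacter G → ℤ} {n : ℤ},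
      f' = ∑ ψ, (m' ψ : ℂ) • ψ.1 → (∀ ψ, classInner f ψ.1 = m ψ) →
      classInner f f' = (n : ℂ) → ∑ ψ, m ψ * m' ψ = n := by
    intro f f' m m' n h1 h2 h3
    rw [h1, Char.classInner_sum_right] at h3
    simp only [Char.classInner_smul_right, map_intCast, h2] at h3
    have : ((∑ ψ, m ψ * m' ψ : ℤ) : ℂ) = (n : ℂ) := by
      push_cast; rw [← h3]; exact Finset.sum_congr rfl fun ψ _ => mul_comm _ _
    exact_mod_cast this
  choose deg hdpos hdeg using fun χ : IrrCharacter G => CharInt.irr_degree_pos χ.2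
  have atone' : ∀ {f : G → ℂ} {m : IrrCharacter G → ℤ}, f = ∑ ψ, (m ψ : ℂ) • ψ.1 → f 1 = 0 →
      ∑ ψ, m ψ * (deg ψ : ℤ) = 0 := by
    intro f m h1 h0
    have h := congrFun h1 1
    rw [h0, Finset.sum_apply] at h
    simp only [Pi.smul_apply, hdeg, smul_eq_mul] at h
    have : ((∑ ψ, m ψ * (deg ψ : ℤ) : ℤ) : ℂ) = 0 := by push_cast; exact h.symm
    exact_mod_cast this
  have atone : ∀ {F : M → ℤ√(-2)} {m : IrrCharacter G → ℤ}, K.nu F = ∑ ψ, (m ψ : ℂ) • ψ.1 → F 1 = 0 →
      ∑ ψ, m ψ * (deg ψ : ℤ) = 0 := fun h1 h0 => atone' h1 (by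
    rw [Core.nu, Char.indFun_apply_one, Core.lift, map_one, h0, map_zero, mul_zero])
  have triv : ∀ {F : M → ℤ√(-2)} {m : IrrCharacter G → ℤ} {n : ℤ}, (∀ ψ, classInner (K.nu F) ψ.1 = m ψ) →
      (∑ h : M, F h) = 48 * (n : ℤ√(-2)) → m (Char.trivialChar G) = n := by
    intro F m n h1 h2
    have h := h1 (Char.trivialChar G)
    have hr0 : (K.r : ℂ) ≠ 0 := Nat.cast_ne_zero.2 K.r_pos.ne'
    rw [Core.coeff] at h
    simp only [Char.trivialChar_apply, map_one, mul_one] at h
    rw [sum_comp_hom K.π K.surj fun k => emb (F k), ← map_sum, h2, map_mul, map_intCast, map_ofNat, nsmul_eq_mul,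
      ← Core.r] at h
    field_simp at h
    exact_mod_cast h.symm
  have one : ∀ χ : IrrCharacter G, (deg χ : ℤ) = 1 → χ = Char.trivialChar G := by
    intro χ hχ
    obtain ⟨lam, hlam⟩ := Char.IsCharacter.exists_monoidHom (Char.irr_isCharacter χ)
      (by rw [hdeg]; exact_mod_cast hχ)
    rcases (inferInstance : lam.toHomUnits.ker.Normal).eq_bot_or_eq_top with hb | htop
    · exact absurd (fun a b => (lam.toHomUnits.ker_eq_bot_iff).1 hb (by rw [map_mul, map_mul, mul_comm])) hnc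
    · refine Subtype.ext (funext fun g => ?_)
      have hg : lam.toHomUnits g = 1 := MonoidHom.mem_ker.1 (htop ▸ Subgroup.mem_top g)
      have := congrArg Units.val hg
      rw [MonoidHom.coe_toHomUnits, Units.val_one] at this
      rw [← hlam, this, Char.trivialChar_apply]
  obtain ⟨gAA, gBB, gBB', gCC, gDD, gAB, gAB', gAC, gAD, gbb, gBC, gB'C, gDB, gDB', gCD⟩ := gram_table
  obtain ⟨uA, uB, uB', uC, uD⟩ := totals
  obtain ⟨oA, oB, oB', oC, oD⟩ := tab_at_one
  have hdata : Data (fun χ => (deg χ : ℤ)) mA mB mB' mC mD (Char.trivialChar G) :=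
    { pos := fun χ => by exact_mod_cast hdpos χ
      dego := by
        have := hdeg (Char.trivialChar G)
        rw [Char.trivialChar_apply] at this
        exact_mod_cast this.symm
      one := one
      AA := dot dA cA (K.inner_nu sA sA isGen_fA (n := 3) (by exact_mod_cast gAA))
      BB := dot dB cB (K.inner_nu sB sB isGen_fB (n := 2) (by exact_mod_cast gBB))
      BB' := dot dB' cB' (K.inner_nu sB' sB' isGen_fB' (n := 2) (by exact_mod_cast gBB'))
      CC := dot dC cC (K.inner_nu sC sC isGen_fC (n := 3) (by exact_mod_cast gCC))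
      DD := dot dD cD (K.inner_nu sD sD isGen_fD (n := 3) (by exact_mod_cast gDD))
      AB := dot dB cA (K.inner_nu sA sB isGen_fB (n := 1) (by exact_mod_cast gAB))
      AB' := dot dB' cA (K.inner_nu sA sB' isGen_fB' (n := 1) (by exact_mod_cast gAB'))
      AC := dot dC cA (K.inner_nu sA sC isGen_fC (n := 1) (by exact_mod_cast gAC))
      AD := dot dD cA (K.inner_nu sA sD isGen_fD (n := 1) (by exact_mod_cast gAD))
      bb := dot dB' cB (K.inner_nu sB sB' isGen_fB' (n := 1) (by exact_mod_cast gbb))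
      BC := dot dC cB (K.inner_nu sB sC isGen_fC (n := 0) (by exact_mod_cast gBC))
      B'C := dot dC cB' (K.inner_nu sB' sC isGen_fC (n := 0) (by exact_mod_cast gB'C))
      DB := dot dB cD (K.inner_nu sD sB isGen_fB (n := 1) (by exact_mod_cast gDB))
      DB' := dot dB' cD (K.inner_nu sD sB' isGen_fB' (n := 1) (by exact_mod_cast gDB'))
      CD := dot dD cC (K.inner_nu sC sD isGen_fD (n := -1) (by exact_mod_cast gCD))
      Ao := triv cA (by exact_mod_cast uA)
      Bo := triv cB (by exact_mod_cast uB)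
      B'o := triv cB' (by exact_mod_cast uB')
      Co := triv cC (by exact_mod_cast uC)
      Do := triv cD (by exact_mod_cast uD)
      A1 := atone dA oA
      B1 := atone dB oB
      B'1 := atone dB' oB'
      D1 := atone dD oD }
  obtain ⟨X, Y, Y', Z, P, Q, W, S⟩ := exists_supports hdata
  -- the twisted functions
  have tw : ∀ {β : K.X1 →* ℂ}, K.Nontriv β → ∀ χ, (χ = X ∨ χ = Z ∨ χ = P ∨ χ = Q) →
      (∑ x : K.X1, β x * emb (fA (K.p1 x)) * conj (χ.1 (x : G))) = 0 ∧
      (∑ x : K.X1, β x * emb (fB (K.p1 x)) * conj (χ.1 (x : G))) = 0 := by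
    intro β hβ χ hχ
    obtain ⟨mφ, dφ, cφ⟩ := decomp (Char.isGeneralizedCharacter_indFun K.X1 (K.isGen_tw β isGen_fA))
    obtain ⟨mψ, dψ, cψ⟩ := decomp (Char.isGeneralizedCharacter_indFun K.X1 (K.isGen_tw β isGen_fB))
    have twisted : ∀ {F : M → ℤ√(-2)} {m : IrrCharacter G → ℤ}, (∀ h, ¬ Special h → F h = 0) → F 1 = 0 →
        (∀ ψ, classInner (K.mu β F) ψ.1 = m ψ) → K.mu β F = ∑ ψ, (m ψ : ℂ) • ψ.1 →
        Twisted (fun χ => (deg χ : ℤ)) mA mB mB' mC mD (Char.trivialChar G) m := by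
      intro F m hF hF1 hc hd
      exact
      { fo := by
          have := (hc (Char.trivialChar G)).symm.trans (K.inner_mu_const hβ F)
          exact_mod_cast this
        fA := dot hd cA (by rw [K.inner_nu_mu hβ isGen_fA sA hF]; norm_num)
        fB := dot hd cB (by rw [K.inner_nu_mu hβ isGen_fB sB hF]; norm_num)
        fB' := dot hd cB' (by rw [K.inner_nu_mu hβ isGen_fB' sB' hF]; norm_num)
        fC := dot hd cC (by rw [K.inner_nu_mu hβ isGen_fC sC hF]; norm_num)
        fD := dot hd cD (by rw [K.inner_nu_mu hβ isGen_fD sD hF]; norm_num)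
        f1 := atone' hd (by
          rw [Core.mu, Char.indFun_apply_one, Core.tw, map_one, map_one, map_one, hF1, map_zero, mul_zero, mul_zero]) }
    have hv := S.vanish hdata (twisted sA oA cφ dφ) (twisted sB oB cψ dψ)
      (dot dφ cφ (K.inner_mu hβ isGen_fA sA sA (n := 4) (by exact_mod_cast gram1_table.1)))
      (dot dψ cψ (K.inner_mu hβ isGen_fB sB sB (n := 3) (by exact_mod_cast gram1_table.2.1)))
      (dot dψ cφ (K.inner_mu hβ isGen_fA sA sB (n := 2) (by exact_mod_cast gram1_table.2.2))) χ hχ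
    have hr0 : (24 * K.r : ℂ)⁻¹ ≠ 0 :=
      inv_ne_zero (mul_ne_zero (by norm_num) (Nat.cast_ne_zero.2 K.r_pos.ne'))
    constructor
    · have := cφ χ
      rw [hv.1, Int.cast_zero, ← Core.mu, K.coeff_mu] at this
      exact (mul_eq_zero.1 this).resolve_left hr0
    · have := cψ χ
      rw [hv.2, Int.cast_zero, ← Core.mu, K.coeff_mu] at this
      exact (mul_eq_zero.1 this).resolve_left hr0
  have orth : ∀ χ, (χ = X ∨ χ = Z ∨ χ = P ∨ χ = Q) → K.Orth χ := fun χ hχ β hβ => tw hβ χ hχ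
  set T : IrrCharacter G → ℤ := fun χ => 4 * mC χ + 2 * (mB χ + mB' χ) - 3 * mA χ + mD χ with hT
  have hTval : ∀ χ : IrrCharacter G, (∀ y : K.p1.ker, χ.1 (((K.c1 * (y : K.X1) : K.X1)) : G) = χ.1 K.c) →
      χ.1 K.c = (T χ : ℂ) := by
    intro χ hconst
    have hr0 : (K.r : ℂ) ≠ 0 := Nat.cast_ne_zero.2 K.r_pos.ne'
    have hfib : ∑ x : K.X, (if K.π x = z then conj (χ.1 (x : G)) else 0) = (K.r : ℂ) * conj (χ.1 K.c) := by
      rw [← Finset.sum_filter]
      have e : ∑ x ∈ Finset.univ.filter (fun x : K.X => K.π x = z), conj (χ.1 (x : G)) =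
          ∑ x ∈ Finset.univ.filter (fun x : K.X1 => K.p1 x = z), conj (χ.1 (x : G)) :=
        Finset.sum_bij'
          (fun x hx => (⟨(x : G), (K.mem_X1_iff x).2 (by rw [(Finset.mem_filter.1 hx).2]; decide)⟩ : K.X1))
          (fun x _ => K.inX x)
          (fun x hx => Finset.mem_filter.2 ⟨Finset.mem_univ _, (Finset.mem_filter.1 hx).2⟩)
          (fun x hx => Finset.mem_filter.2 ⟨Finset.mem_univ _, (Finset.mem_filter.1 hx).2⟩)
          (fun _ _ => rfl) (fun _ _ => rfl) (fun _ _ => rfl)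
      rw [e, ← K.p1_c1, K.sum_fibre, Finset.sum_congr rfl fun y _ => congrArg conj (hconst y), Finset.sum_const,
        Finset.card_univ, ← Nat.card_eq_fintype_card, K.card_ker_p1, nsmul_eq_mul]
    have h1 : ((T χ : ℤ) : ℂ) = conj (χ.1 K.c) := by
      simp only [hT]
      push_cast
      rw [← cA, ← cB, ← cB', ← cC, ← cD, K.coeff, K.coeff, K.coeff, K.coeff, K.coeff]
      calc _ = (48 * K.r : ℂ)⁻¹ * ∑ x : K.X, emb (4 * fC (K.π x) + 2 * (fB (K.π x) + fB' (K.π x)) -
            3 * fA (K.π x) + fD (K.π x)) * conj (χ.1 (x : G)) := by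
            simp only [map_add, map_sub, map_mul, map_ofNat, add_mul, sub_mul, mul_assoc, Finset.sum_add_distrib,
              Finset.sum_sub_distrib, ← Finset.mul_sum]
            ring
        _ = (48 * K.r : ℂ)⁻¹ * (48 * ((K.r : ℂ) * conj (χ.1 K.c))) := by
            rw [← hfib, Finset.mul_sum (a := (48 : ℂ))]
            congr 1
            refine Finset.sum_congr rfl fun x _ => ?_
            rw [indicator_z]
            split_ifs <;> simp [map_ofNat]
        _ = _ := by field_simp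
    rw [← Complex.conj_conj (χ.1 K.c), ← h1, map_intCast]
  have hconst : ∀ χ, (χ = Char.trivialChar G ∨ χ = X ∨ χ = Z ∨ χ = P ∨ χ = Q) → χ.1 K.c = (T χ : ℂ) := by
    intro χ hχ
    refine hTval χ fun y => ?_
    rcases hχ with rfl | hχ
    · rw [Char.trivialChar_apply, Char.trivialChar_apply]
    · exact (orth χ hχ).const K y
  have hdeg16 : ∀ χ, (χ = X ∨ χ = Z ∨ χ = P ∨ χ = Q) → 16 ≤ (deg χ : ℤ) := by
    intro χ hχ
    have hne : χ ≠ Char.trivialChar G := by
      obtain ⟨xo, -, -, -, -, -, zo, -⟩ := S.dist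
      obtain ⟨-, -, -, po, -, -, -, qo, -⟩ := S.distPQ
      rcases hχ with rfl | rfl | rfl | rfl <;> assumption
    exact_mod_cast (orth χ hχ).degree K hr1 hne (hdeg χ)
  -- the two equations
  have eq : ∀ {F : M → ℤ√(-2)} {m : IrrCharacter G → ℤ}, (∀ h, ¬ Special h → F h = 0) →
      (∑ h : M, F h * ((solutions h).card : ℤ√(-2))) = 96 → (∀ ψ, classInner (K.nu F) ψ.1 = m ψ) →
      (∀ χ, m χ ≠ 0 → χ = Char.trivialChar G ∨ χ = X ∨ χ = Z ∨ χ = P ∨ χ = Q) →
      (∑ i, (m i : ℚ) * (T i : ℚ) ^ 2 / ((deg i : ℤ) : ℚ)) = 4608 * (K.r : ℚ) ^ 3 / (Nat.card G : ℚ) := by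
    intro F m hF hc hm hsupp
    have h := K.weighted hF hc
    have : (((∑ i, (m i : ℚ) * (T i : ℚ) ^ 2 / ((deg i : ℤ) : ℚ)) : ℚ) : ℂ) =
        ((4608 * (K.r : ℚ) ^ 3 / (Nat.card G : ℚ) : ℚ) : ℂ) := by
      push_cast
      rw [← h]
      refine Finset.sum_congr rfl fun χ _ => ?_
      rw [hm]
      by_cases h0 : m χ = 0
      · simp [h0]
      · rw [hconst χ (hsupp χ h0), hdeg]
        ring
    exact_mod_cast this
  obtain ⟨hXo, hYo, hY'o, hXY, hXY', hYY', hZo, hZX, hZY, hZY'⟩ := S.dist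
  obtain ⟨hPX, hQX, hPQ, hPo, hPY, hPY', hPZ, hQo, hQY, hQY', hQZ⟩ := S.distPQ
  obtain ⟨hWo, hWP, hWQ, hWX, hWY, hWY', hWZ⟩ := S.distW
  obtain ⟨hBY, hB'X, hB'Y', hAX, hDX, hCP⟩ := S.vals
  have qA := eq sA count_four.1 cA fun χ hχ => by
    by_contra hn
    push Not at hn
    exact hχ (S.offA χ hn.1 hn.2.1 hn.2.2.1)
  have qD := eq sD count_four.2 cD fun χ hχ => by
    by_contra hn
    push Not at hn
    exact hχ (S.offD χ hn.2.1 hn.2.2.2.1 hn.2.2.2.2)
  have cXYY : mC X = 0 ∧ mC Z = 0 ∧ mC Q = 0 :=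
    ⟨S.offC X hXo hPX.symm hWX.symm, S.offC Z hZo hPZ.symm hWZ.symm, S.offC Q hQo hPQ.symm hWQ.symm⟩
  have To : T (Char.trivialChar G) = 1 := by
    simp only [hT]; rw [hdata.Co, hdata.Bo, hdata.B'o, hdata.Ao, hdata.Do]; norm_num
  have TX : T X = 2 * mB X := by simp only [hT]; rw [cXYY.1, hB'X, hAX, hDX]; ring
  have TZ : T Z = -3 * mA Z := by
    simp only [hT]; rw [cXYY.2.1, S.offB Z hZX hZY, S.offB' Z hZX hZY', S.offD Z hZX hPZ.symm hQZ.symm]; ring
  have TP : T P = -3 * mD P := by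
    simp only [hT]; rw [hCP, S.offB P hPX hPY, S.offB' P hPX hPY', S.offA P hPo hPX hPZ]; ring
  have TQ : T Q = mD Q := by
    simp only [hT]; rw [cXYY.2.2, S.offB Q hQX hQY, S.offB' Q hQX hQY', S.offA Q hQo hQX hQZ]; ring
  set x : ℤ := mB X * (deg X : ℤ) with hx
  set d : ℤ := mD P * (deg P : ℤ) with hd
  set e : ℤ := mD Q * (deg Q : ℤ) with he
  have relA := S.relA
  have relD := S.relD
  have hx1 : (x : ℤ) + 1 = -(mA Z * (deg Z : ℤ)) := by omega
  have hXpos : ((deg X : ℕ) : ℚ) ≠ 0 := Nat.cast_ne_zero.2 (hdpos X).ne'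
  have hPpos : ((deg P : ℕ) : ℚ) ≠ 0 := Nat.cast_ne_zero.2 (hdpos P).ne'
  have hQpos : ((deg Q : ℕ) : ℚ) ≠ 0 := Nat.cast_ne_zero.2 (hdpos Q).ne'
  have hZpos : ((deg Z : ℕ) : ℚ) ≠ 0 := Nat.cast_ne_zero.2 (hdpos Z).ne'
  have hzq : (x : ℚ) + 1 = -((mA Z : ℚ) * (deg Z : ℚ)) := by exact_mod_cast hx1
  have qA' : 1 + 4 / (x : ℚ) - 9 / ((x : ℚ) + 1) = 4608 * (K.r : ℚ) ^ 3 / (Nat.card G : ℚ) := by
    rw [← qA, triple_dot hXo.symm hZo hZX (fun i h1 h2 h3 => by rw [S.offA i h1 h2 h3]; simp), To, TX, TZ,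
      hdata.Ao, hdata.dego, hAX, hzq, hx]
    rcases S.sX with q | q <;> rcases S.vZ with q' | q' <;> rw [q, q'] <;> push_cast <;> field_simp <;> ring
  have qD' : 4 / (x : ℚ) + 9 / (d : ℚ) + 1 / (e : ℚ) = 4608 * (K.r : ℚ) ^ 3 / (Nat.card G : ℚ) := by
    rw [← qD, triple_dot hPX.symm hQX hPQ.symm (fun i h1 h2 h3 => by rw [S.offD i h1 h2 h3]; simp), TX, TP, TQ,
      hDX, hx, hd, he]
    rcases S.sX with q | q <;> rcases S.vP with q' | q' <;> rcases S.vQ with q'' | q'' <;> rw [q, q', q''] <;>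
      push_cast <;> field_simp <;> ring
  have habs : ∀ {s : ℤ} (k : ℕ), (s = 1 ∨ s = -1) → |s * (k : ℤ)| = k := fun k hs => by
    rcases hs with q | q <;> rw [q] <;> simp
  have ax : 16 ≤ |x| := by rw [hx, habs _ S.sX]; exact hdeg16 X (Or.inl rfl)
  have ax1 : 16 ≤ |x + 1| := by rw [hx1, abs_neg, habs _ S.vZ]; exact hdeg16 Z (Or.inr (Or.inl rfl))
  have ad : 16 ≤ |d| := by rw [hd, habs _ S.vP]; exact hdeg16 P (Or.inr (Or.inr (Or.inl rfl)))
  have ae : 16 ≤ |e| := by rw [he, habs _ S.vQ]; exact hdeg16 Q (Or.inr (Or.inr (Or.inr rfl)))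
  have qx : (x : ℚ) ≠ 0 := by
    intro q; have : x = 0 := by exact_mod_cast q
    rw [this] at ax; norm_num at ax
  have qx1 : (x : ℚ) + 1 ≠ 0 := by
    intro q; have : x + 1 = 0 := by exact_mod_cast q
    rw [this] at ax1; norm_num at ax1
  have qd : (d : ℚ) ≠ 0 := by
    intro q; have : d = 0 := by exact_mod_cast q
    rw [this] at ad; norm_num at ad
  have qe : (e : ℚ) ≠ 0 := by
    intro q; have : e = 0 := by exact_mod_cast q
    rw [this] at ae; norm_num at ae
  have qG : (Nat.card G : ℚ) ≠ 0 := Nat.cast_ne_zero.2 Nat.card_pos.ne'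
  have e2 : (x + 1 - 9) * (d * e) = (x + 1) * (9 * e + d) := by
    have h2 := qD'
    rw [← qA'] at h2
    field_simp at h2
    have hh : (x : ℚ) * (((x : ℚ) + 1 - 9) * (d * e)) = (x : ℚ) * ((x + 1) * (9 * e + d)) := by linarith
    exact_mod_cast mul_left_cancel₀ qx hh
  have e1 : (Nat.card G : ℤ) * ((x - 2) * (x - 2)) = 4608 * (K.r : ℤ) ^ 3 * (x * (x + 1)) := by
    have h1 := qA'
    field_simp at h1
    have hh : ((Nat.card G : ℤ) : ℚ) * (((x : ℚ) - 2) * ((x : ℚ) - 2)) = 4608 * (K.r : ℚ) ^ 3 * ((x : ℚ) * (x + 1)) := by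
      push_cast; linarith
    exact_mod_cast hh
  refine arith_false ax ax1 ad ae (by omega) e2 e1 ?_ ?_
  · haveI : Fact (Nat.Prime 2) := ⟨Nat.prime_two⟩
    have h16 : 2 ^ 4 ∣ Nat.card G := K.two ▸ Nat.ordProj_dvd _ 2
    have h32 : ¬ 2 ^ 5 ∣ Nat.card G := fun h => by
      have := (Nat.Prime.pow_dvd_iff_le_factorization Nat.prime_two Nat.card_pos.ne').1 h
      rw [K.two] at this
      omega
    simp only [Nat.reducePow] at h16 h32
    omega
  · obtain ⟨k, hk⟩ := (K.odd_r).pow (n := 3)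
    have : (K.r : ℤ) ^ 3 = 2 * k + 1 := by exact_mod_cast hk
    omega

/-- **Semidihedral core.** -/
theorem sd_core [IsSimpleGroup G] (hns : ¬ Group.IsSolvable G) (S : Sylow 2 G)
    (hS : Cfsg.IsQuasiDihedral (S : Subgroup G)) (V : Subgroup G) (hV : IsKleinFour V)
    (hVS : V ≤ (S : Subgroup G)) (hCV : Subgroup.centralizer (V : Set G) = V) :
    (∃ (F : Type) (_ : Field F) (_ : Fintype F), Fintype.card F = 3 ∧
      Nonempty (G ≃* Matrix.ProjectiveSpecialLinearGroup (Fin 3) F)) ∨ Cfsg.Spor.IsoM11 G := by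
  obtain ⟨K⟩ := exists_core hns S hS V hV hVS hCV
  have hr := K.r_eq_one hns
  have hinj : Function.Injective K.π := by
    rw [← MonoidHom.ker_eq_bot_iff]
    exact Subgroup.card_eq_one.1 hr
  let e : K.X ≃* GL (Fin 2) (ZMod 3) := (MulEquiv.ofBijective K.π ⟨hinj, K.surj⟩).trans toGL
  exact S2916.result (pResidual_eq_top_of_insoluble hns) K.c K.hc ⟨e⟩

end Cfsg.Agent.SuborbitThree
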