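import Cfsg.Agent.Lib.SuborbitThree.SDCore.Shape
import Cfsg.Agent.Lib.InvolCentGLTwoThree.Main

/-!
Class functions on an involution centraliser with `GL(2, 3)` quotient: inflated and twisted functions.
-/

set_option autoImplicit false
set_option linter.style.haveILetI false
set_option linter.unusedSectionVars false

namespace Cfsg.Agent.SuborbitThree

open Cfsg Cfsg.Agent InvolCentGLTwoThree
open scoped Classical ComplexConjugate

universe u

variable {G : Type u} [Group G] [Fintype G] (K : Core G)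

/-- The elements of determinant one in the model. -/
def M1 : Subgroup M where
  carrier := {h | dt h = 1}
  one_mem' := by decide
  mul_mem' := fun {a b} ha hb =>
    (by decide +kernel : ∀ a b : M, dt a = 1 → dt b = 1 → dt (a * b) = 1) a b ha hb
  inv_mem' := fun {a} ha => (by decide +kernel : ∀ a : M, dt a = 1 → dt a⁻¹ = 1) a ha

/-- The centraliser. -/
abbrev Core.X : Subgroup G := Subgroup.centralizer ({K.c} : Set G)

/-- The elements of the centraliser over determinant one. -/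
def Core.X1 : Subgroup G := (M1.comap K.π).map K.X.subtype

theorem Core.X1_le : K.X1 ≤ K.X := Subgroup.map_subtype_le _

/-- The inclusion. -/
def Core.inX : K.X1 →* K.X := Subgroup.inclusion K.X1_le

theorem Core.mem_X1_iff (x : K.X) : (x : G) ∈ K.X1 ↔ dt (K.π x) = 1 := by
  constructor
  · rintro ⟨w, hw, e⟩
    rw [← Subtype.ext e]
    exact hw
  · exact fun h => ⟨x, h, rfl⟩

theorem Core.dt_X1 (x : K.X1) : dt (K.π (K.inX x)) = 1 := (K.mem_X1_iff (K.inX x)).1 x.2

theorem sum_comp_hom {R : Type*} [AddCommMonoid R] {X : Type*} [Group X] [Fintype X] {Y : Type*} [Group Y]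
    [Fintype Y] (f : X →* Y) (hf : Function.Surjective f) (F : Y → R) :
    ∑ x : X, F (f x) = Nat.card f.ker • ∑ y : Y, F y := by
  rw [← Finset.sum_fiberwise_of_maps_to (s := Finset.univ) (t := Finset.univ) (g := f)
    (fun _ _ => Finset.mem_univ _) fun x => F (f x), Finset.smul_sum]
  refine Finset.sum_congr rfl fun y _ => ?_
  obtain ⟨x₀, rfl⟩ := hf y
  rw [Finset.sum_congr rfl fun x hx => show F (f x) = F (f x₀) by rw [(Finset.mem_filter.1 hx).2],
    Finset.sum_const]
  congr 1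
  rw [Nat.card_eq_fintype_card]
  refine Finset.card_bij' (fun x hx => (⟨x₀⁻¹ * x, by
      rw [MonoidHom.mem_ker, map_mul, map_inv, (Finset.mem_filter.1 hx).2, inv_mul_cancel]⟩ : f.ker))
    (fun k _ => x₀ * (k : X)) (fun _ _ => Finset.mem_univ _)
    (fun k _ => Finset.mem_filter.2 ⟨Finset.mem_univ _, by rw [map_mul, MonoidHom.mem_ker.1 k.2, mul_one]⟩)
    (fun x _ => by simp) (fun k _ => Subtype.ext (by simp))

/-- The order of the odd core. -/
noncomputable def Core.r : ℕ := Nat.card K.π.ker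

theorem Core.r_pos : 0 < K.r := Nat.card_pos

theorem Core.card_X : Nat.card K.X = 48 * K.r := by
  rw [← K.π.ker.card_mul_index, Subgroup.index_ker, MonoidHom.range_eq_top.2 K.surj, Subgroup.card_top,
    Nat.card_eq_fintype_card (α := M), card_M, mul_comm, Core.r]

theorem Core.sum_X1 {R : Type*} [AddCommMonoid R] (F : M → R) :
    ∑ x : K.X1, F (K.π (K.inX x)) = K.r • ∑ h ∈ Finset.univ.filter (fun h : M => dt h = 1), F h := by
  rw [Finset.sum_filter, Core.r, ← sum_comp_hom K.π K.surj, ← Finset.sum_filter]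
  refine Finset.sum_bij (fun x _ => K.inX x) (fun x _ => Finset.mem_filter.2 ⟨Finset.mem_univ _, K.dt_X1 x⟩)
    (fun x _ y _ e => Subgroup.inclusion_injective K.X1_le e)
    (fun y hy => ⟨⟨(y : G), (K.mem_X1_iff y).2 (Finset.mem_filter.1 hy).2⟩, Finset.mem_univ _, rfl⟩)
    (fun _ _ => rfl)

theorem Core.card_X1 : Nat.card K.X1 = 24 * K.r := by
  have h : ∑ _x : K.X1, (1 : ℕ) = K.r • ∑ h ∈ Finset.univ.filter (fun h : M => dt h = 1), (1 : ℕ) :=
    K.sum_X1 fun _ => 1
  rw [← Finset.card_eq_sum_ones, ← Finset.card_eq_sum_ones, Finset.card_univ,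
    ← Nat.card_eq_fintype_card, show (Finset.univ.filter (fun h : M => dt h = 1)).card = 24 by decide +kernel,
    smul_eq_mul] at h
  omega

/-- The elements with `c` as a power. -/
def Core.specials : Set G := {g | ∃ hg : g ∈ K.X, Special (K.π ⟨g, hg⟩)}

theorem Core.mem_specials (x : K.X) : (x : G) ∈ K.specials ↔ Special (K.π x) :=
  ⟨fun ⟨_, h⟩ => h, fun h => ⟨x.2, h⟩⟩

theorem Core.c_mem_zpowers {x : K.X} (hx : Special (K.π x)) : K.c ∈ Subgroup.zpowers (x : G) := by
  obtain ⟨n, hn⟩ : ∃ n : ℕ, K.π x ^ n = z := by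
    rcases hx with h | h | h | h
    · exact ⟨1, by rw [pow_one, h]⟩
    · exact ⟨2, by rw [pow_two, h]⟩
    · exact ⟨3, by rw [pow_succ, pow_two, h]⟩
    · exact ⟨4, by rw [show (4 : ℕ) = 2 + 2 from rfl, pow_add, pow_two, h]⟩
  set cX : K.X := ⟨K.c, Subgroup.mem_centralizer_singleton_iff.2 rfl⟩
  have hc : cX * cX = 1 := Subtype.ext (by
    show K.c * K.c = 1
    rw [← sq, ← K.hc, pow_orderOf_eq_one])
  have hker : cX * x ^ n ∈ K.π.ker := by
    rw [MonoidHom.mem_ker, map_mul, map_pow, hn, K.map_c, s₀_facts.2.2.2.1]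
  obtain ⟨k, hk⟩ := K.odd
  have hr : (cX * x ^ n) ^ Nat.card K.π.ker = 1 := congrArg Subtype.val (pow_card_eq_one' (x := (⟨_, hker⟩ : K.π.ker)))
  have hcomm : Commute cX (x ^ n) := by
    refine Commute.pow_right ?_ n
    exact Subtype.ext (Subgroup.mem_centralizer_singleton_iff.1 x.2).symm
  rw [hcomm.mul_pow] at hr
  have hcpow : cX ^ Nat.card K.π.ker = cX := by rw [hk, pow_succ, pow_mul, pow_two, hc, one_pow, one_mul]
  rw [hcpow] at hr
  have : cX = (x ^ n) ^ Nat.card K.π.ker := by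
    calc cX = cX * (cX * (x ^ n) ^ Nat.card K.π.ker) := by rw [hr, mul_one]
      _ = _ := by rw [← mul_assoc, hc, one_mul]
  rw [show K.c = ((cX : K.X) : G) from rfl, this]
  exact pow_mem (pow_mem (Subgroup.mem_zpowers _) n) _

theorem Core.ti : ∀ g : G, ∀ s ∈ K.specials, g⁻¹ * s * g ∈ K.specials → g ∈ K.X := by
  rintro g s ⟨hs, h1⟩ ⟨ht, h2⟩
  have e1 := K.c_mem_zpowers (x := ⟨s, hs⟩) h1
  have e2 := K.c_mem_zpowers (x := ⟨g⁻¹ * s * g, ht⟩) h2
  have e3 : g⁻¹ * K.c * g ∈ Subgroup.zpowers (g⁻¹ * s * g) := by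
    obtain ⟨i, hi⟩ := e1
    refine ⟨i, ?_⟩
    show (g⁻¹ * s * g) ^ i = g⁻¹ * K.c * g
    rw [← hi, show g⁻¹ * s * g = g⁻¹ * s * g⁻¹⁻¹ by rw [inv_inv], conj_zpow, inv_inv]
  have ho : orderOf (g⁻¹ * K.c * g) = 2 := by
    have := (MulAut.conj g⁻¹).orderOf_eq K.c
    rw [MulAut.conj_apply, inv_inv, K.hc] at this
    exact this
  have := EvenCyclicNorm.involution_unique ho K.hc e3 e2
  refine Subgroup.mem_centralizer_singleton_iff.2 ?_
  calc g * K.c = g * (g⁻¹ * K.c * g) := by rw [this]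
    _ = K.c * g := by group

/-- The inflated function. -/
noncomputable def Core.lift (F : M → ℤ√(-2)) : K.X → ℂ := fun x => emb (F (K.π x))

/-- The induced inflated function. -/
noncomputable def Core.nu (F : M → ℤ√(-2)) : G → ℂ := indFun K.X (K.lift F)

theorem Core.isGen_lift {F : M → ℤ√(-2)} (hF : IsGeneralizedCharacter M (fun h => emb (F h))) :
    IsGeneralizedCharacter K.X (K.lift F) :=
  Char.IsGeneralizedCharacter.comp hF K.π

theorem Core.supp_lift {F : M → ℤ√(-2)} (hF : ∀ h, ¬ Special h → F h = 0) :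
    ∀ x : K.X, (x : G) ∉ K.specials → K.lift F x = 0 := fun x hx => by
  rw [Core.lift, hF _ fun h => hx ((K.mem_specials x).2 h), map_zero]

theorem Core.inner_nu {F F' : M → ℤ√(-2)} (hF : ∀ h, ¬ Special h → F h = 0)
    (hF' : ∀ h, ¬ Special h → F' h = 0) (hgen : IsGeneralizedCharacter M (fun h => emb (F' h))) {n : ℤ}
    (hg : gram F F' = 48 * (n : ℤ√(-2))) : classInner (K.nu F) (K.nu F') = (n : ℂ) := by
  have hr : (K.r : ℂ) ≠ 0 := Nat.cast_ne_zero.2 K.r_pos.ne'
  rw [Core.nu, Core.nu, CharInt.classInner_indFun_ti K.ti (K.supp_lift hF)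
    (Char.IsGeneralizedCharacter.isClassFunction (K.isGen_lift hgen)) (K.supp_lift hF'), classInner, K.card_X]
  simp only [Core.lift, conj_emb, ← map_mul]
  rw [sum_comp_hom K.π K.surj fun h => emb (F h * star (F' h)), ← map_sum,
    show (∑ k : M, F k * star (F' k)) = gram F F' from rfl, hg, map_mul, map_intCast, map_ofNat,
    nsmul_eq_mul, ← Core.r]
  push_cast
  field_simp

theorem Core.coeff (F : M → ℤ√(-2)) (χ : IrrCharacter G) : classInner (K.nu F) χ.1 =
    (48 * K.r : ℂ)⁻¹ * ∑ x : K.X, emb (F (K.π x)) * conj (χ.1 (x : G)) := by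
  rw [Core.nu, Char.classInner_indFun _ _ (Char.IsCharacter.isClassFunction (Char.irr_isCharacter χ)), classInner,
    K.card_X]
  push_cast
  rfl

/-- A twisted function on the elements over determinant one. -/
noncomputable def Core.tw (β : K.X1 →* ℂ) (F : M → ℤ√(-2)) : K.X1 → ℂ :=
  fun x => β x * emb (F (K.π (K.inX x)))

/-- The induced twisted function. -/
noncomputable def Core.mu (β : K.X1 →* ℂ) (F : M → ℤ√(-2)) : G → ℂ := indFun K.X1 (K.tw β F)

theorem Core.isGen_tw (β : K.X1 →* ℂ) {F : M → ℤ√(-2)} (hF : IsGeneralizedCharacter M (fun h => emb (F h))) :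
    IsGeneralizedCharacter K.X1 (K.tw β F) :=
  Char.IsGeneralizedCharacter.mul
    (Char.IsCharacter.isGeneralized (Char.IsIrrCharacter.isCharacter (Char.isIrrCharacter_of_monoidHom β)))
    (Char.IsGeneralizedCharacter.comp hF (K.π.comp K.inX))

/-- A linear character non-trivial on the core. -/
def Core.Nontriv (β : K.X1 →* ℂ) : Prop := ∃ y : K.X1, K.π (K.inX y) = 1 ∧ β y ≠ 1

theorem Core.sq_ne_one {β : K.X1 →* ℂ} {y : K.X1} (hy : K.π (K.inX y) = 1) (h : β y ≠ 1) :
    β y * β y ≠ 1 := by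
  intro h2
  apply h
  obtain ⟨k, hk⟩ := K.odd
  have hr : K.inX y ^ Nat.card K.π.ker = 1 :=
    congrArg Subtype.val (pow_card_eq_one' (x := (⟨K.inX y, hy⟩ : K.π.ker)))
  have hy1 : y ^ Nat.card K.π.ker = 1 := Subgroup.inclusion_injective K.X1_le (by
    rw [← Core.inX, map_pow, map_one]; exact hr)
  have := congrArg β hy1
  rw [map_pow, map_one, hk, pow_succ, pow_mul, pow_two, h2, one_pow, one_mul] at this
  exact this

/-- A function picking up a scalar under translation sums to zero. -/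
theorem sum_eq_zero_of_translate {X : Type*} [Group X] [Fintype X] (f : X → ℂ) (y : X) {k : ℂ} (hk : k ≠ 1)
    (h : ∀ x, f (x * y) = k * f x) : ∑ x, f x = 0 := by
  have e : k * ∑ x, f x = ∑ x, f x := by
    rw [Finset.mul_sum, ← Fintype.sum_equiv (Equiv.mulRight y) (fun x => f (x * y)) f fun _ => rfl]
    exact Finset.sum_congr rfl fun x _ => (h x).symm
  by_contra hne
  exact hk ((mul_eq_right₀ hne).1 e)

theorem Core.nu_on_special {F : M → ℤ√(-2)} (hgen : IsGeneralizedCharacter M (fun h => emb (F h)))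
    (hF : ∀ h, ¬ Special h → F h = 0) (x : K.X) (hx : Special (K.π x)) : K.nu F (x : G) = emb (F (K.π x)) :=
  CharInt.indFun_eq_of_ti K.ti (Char.IsGeneralizedCharacter.isClassFunction (K.isGen_lift hgen))
    (K.supp_lift hF) ((K.mem_specials x).2 hx)

theorem Core.inner_nu_mu {β : K.X1 →* ℂ} (hβ : K.Nontriv β) {F F' : M → ℤ√(-2)}
    (hgen : IsGeneralizedCharacter M (fun h => emb (F h)))
    (hF : ∀ h, ¬ Special h → F h = 0) (hF' : ∀ h, ¬ Special h → F' h = 0) :
    classInner (K.nu F) (K.mu β F') = 0 := by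
  rw [Core.mu, Char.classInner_indFun_right (χ := K.nu F) _ _ (Char.isClassFunction_indFun _ _), classInner]
  refine mul_eq_zero_of_right _ ?_
  obtain ⟨y, hy, hy1⟩ := hβ
  have hval : ∀ x : K.X1, K.nu F (x : G) * conj (K.tw β F' x) =
      emb (F (K.π (K.inX x))) * conj (K.tw β F' x) := fun x => by
    by_cases hs : Special (K.π (K.inX x))
    · rw [show (x : G) = ((K.inX x : K.X) : G) from rfl, K.nu_on_special hgen hF _ hs]
    · rw [Core.tw, hF' _ hs, map_zero, mul_zero, map_zero, mul_zero, mul_zero]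
  rw [Finset.sum_congr rfl fun x _ => hval x]
  refine sum_eq_zero_of_translate _ y (k := conj (β y)) (fun q => hy1 ?_) fun x => ?_
  · rw [← Complex.conj_conj (β y), q, map_one]
  · simp only [Core.tw, map_mul, hy, mul_one]
    ring

theorem Core.mu_special (β : K.X1 →* ℂ) {F : M → ℤ√(-2)} (hF : ∀ h, ¬ Special h → F h = 0) (x : K.X1)
    (hx : Special (K.π (K.inX x))) : K.mu β F (x : G) =
      (24 * K.r : ℂ)⁻¹ * ∑ g : K.X, Cfsg.extendByZero K.X1 (K.tw β F) ((g : G)⁻¹ * x * g) := by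
  rw [Core.mu, indFun, K.card_X1]
  push_cast
  congr 1
  rw [← Finset.sum_subtype (Finset.univ.filter fun g : G => g ∈ K.X) (by simp)
    (fun g : G => Cfsg.extendByZero K.X1 (K.tw β F) (g⁻¹ * x * g))]
  refine (Finset.sum_subset (Finset.subset_univ _) fun g _ hg => ?_).symm
  by_cases hm : g⁻¹ * (x : G) * g ∈ K.X1
  · rw [Char.extendByZero_of_mem _ _ hm, Core.tw, hF _ fun hs => hg (Finset.mem_filter.2 ⟨Finset.mem_univ _, ?_⟩),
      map_zero, mul_zero]
    exact K.ti g x ⟨K.X1_le x.2, hx⟩ ⟨K.X1_le hm, hs⟩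
  · exact Char.extendByZero_of_notMem _ _ hm

/-- The unnormalised inner product on determinant one. -/
def gram1 (f g : M → ℤ√(-2)) : ℤ√(-2) :=
  ∑ h ∈ Finset.univ.filter (fun h : M => dt h = 1), f h * star (g h)

theorem gram1_table : gram1 fA fA = 24 * 4 ∧ gram1 fB fB = 24 * 3 ∧ gram1 fA fB = 24 * 2 := by decide +kernel

theorem Core.inner_mu {β : K.X1 →* ℂ} (hβ : K.Nontriv β) {F F' : M → ℤ√(-2)}
    (hgen : IsGeneralizedCharacter M (fun h => emb (F h)))
    (hF : ∀ h, ¬ Special h → F h = 0) (hF' : ∀ h, ¬ Special h → F' h = 0) {n : ℤ}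
    (hg : gram1 F F' = 24 * (n : ℤ√(-2))) : classInner (K.mu β F) (K.mu β F') = (n : ℂ) := by
  obtain ⟨y, hy, hy1⟩ := hβ
  have hr : (K.r : ℂ) ≠ 0 := Nat.cast_ne_zero.2 K.r_pos.ne'
  have hcl : IsClassFunction K.X1 (K.tw β F) := Char.IsGeneralizedCharacter.isClassFunction (K.isGen_tw β hgen)
  rw [show K.mu β F' = indFun K.X1 (K.tw β F') from rfl,
    Char.classInner_indFun_right (χ := K.mu β F) _ _ (Char.isClassFunction_indFun _ _), classInner, K.card_X1]
  have hval : ∀ x : K.X1, K.mu β F (x : G) * conj (K.tw β F' x) =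
      (24 * K.r : ℂ)⁻¹ * ∑ g : K.X, Cfsg.extendByZero K.X1 (K.tw β F) ((g : G)⁻¹ * x * g) * conj (K.tw β F' x) := by
    intro x
    rw [← Finset.sum_mul, ← mul_assoc]
    by_cases hs : Special (K.π (K.inX x))
    · rw [K.mu_special β hF x hs]
    · rw [show K.tw β F' x = 0 by rw [Core.tw, hF' _ hs, map_zero, mul_zero], map_zero, mul_zero, mul_zero]
  rw [Finset.sum_congr rfl fun x _ => hval x, ← Finset.mul_sum, Finset.sum_comm]
  have hinner : ∀ g : K.X, ∑ x : K.X1, Cfsg.extendByZero K.X1 (K.tw β F) ((g : G)⁻¹ * x * g) * conj (K.tw β F' x) =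
      if dt (K.π g) = 1 then (24 * n * K.r : ℂ) else 0 := by
    intro g
    split_ifs with hd
    · have hg1 : (g : G) ∈ K.X1 := (K.mem_X1_iff g).2 hd
      rw [Finset.sum_congr (s₁ := (Finset.univ : Finset K.X1)) rfl fun x _ => show Cfsg.extendByZero K.X1 (K.tw β F) ((g : G)⁻¹ * x * g) *
          conj (K.tw β F' x) = emb (F (K.π (K.inX x)) * star (F' (K.π (K.inX x)))) by
        rw [Char.extendByZero_of_mem _ _ (mul_mem (mul_mem (inv_mem hg1) x.2) hg1)]
        have h1 := hcl x ⟨g, hg1⟩⁻¹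
        rw [inv_inv] at h1
        rw [show (⟨(g : G)⁻¹ * x * g, _⟩ : K.X1) = (⟨g, hg1⟩ : K.X1)⁻¹ * x * ⟨g, hg1⟩ from rfl, h1, Core.tw,
          Core.tw, map_mul, map_mul, conj_emb]
        linear_combination (emb (F (K.π (K.inX x))) * emb (star (F' (K.π (K.inX x))))) * Char.normSq_linear β x,
        K.sum_X1 fun h => emb (F h * star (F' h)), ← map_sum,
        show (∑ h ∈ Finset.univ.filter (fun h : M => dt h = 1), F h * star (F' h)) = gram1 F F' from rfl, hg,
        map_mul, map_intCast, map_ofNat, nsmul_eq_mul]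
      ring
    · refine sum_eq_zero_of_translate _ y (k := conj (β y) * conj (β y)) (fun q => K.sq_ne_one hy hy1 ?_) fun x => ?_
      · have := congrArg conj q
        rwa [map_mul, Complex.conj_conj, map_one] at this
      · have hgy : g⁻¹ * K.inX y * g = (K.inX y)⁻¹ := by
          have := K.inv g⁻¹ (by
            rw [map_inv]
            exact (by decide +kernel : ∀ h : M, dt h ≠ 1 → dt h⁻¹ ≠ 1) _ hd) (K.inX y) hy
          rwa [inv_inv] at this
        have hgy' : (g : G)⁻¹ * (y : G) * g = (y : G)⁻¹ := congrArg Subtype.val hgy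
        have e : (g : G)⁻¹ * ((x * y : K.X1) : G) * g = (g : G)⁻¹ * (x : G) * g * (y : G)⁻¹ := by
          rw [← hgy', Subgroup.coe_mul]; group
        rw [e]
        by_cases hm : (g : G)⁻¹ * (x : G) * g ∈ K.X1
        · rw [Char.extendByZero_of_mem _ _ (mul_mem hm (inv_mem y.2)), Char.extendByZero_of_mem _ _ hm]
          simp only [Core.tw]
          rw [show (⟨(g : G)⁻¹ * (x : G) * g * (y : G)⁻¹, _⟩ : K.X1) = (⟨_, hm⟩ : K.X1) * y⁻¹ from rfl]
          simp only [map_mul, map_inv, hy, inv_one, mul_one]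
          rw [← map_inv β y, ← Char.IsCharacter.conj_apply
            (Char.IsIrrCharacter.isCharacter (Char.isIrrCharacter_of_monoidHom β)) y]
          ring
        · rw [Char.extendByZero_of_notMem _ _ fun h => hm (by simpa using mul_mem h y.2),
            Char.extendByZero_of_notMem _ _ hm]
          ring
  rw [Finset.sum_congr rfl fun g _ => hinner g, sum_comp_hom K.π K.surj fun h => if dt h = 1 then _ else _,
    ← Finset.sum_filter, Finset.sum_const,
    show (Finset.univ.filter (fun h : M => dt h = 1)).card = 24 by decide +kernel, ← Core.r]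
  simp only [nsmul_eq_mul]
  push_cast
  field_simp

theorem Core.inner_mu_const {β : K.X1 →* ℂ} (hβ : K.Nontriv β) (F : M → ℤ√(-2)) :
    classInner (K.mu β F) (Char.trivialChar G).1 = 0 := by
  obtain ⟨y, hy, hy1⟩ := hβ
  rw [Core.mu, Char.classInner_indFun _ _ (Char.IsCharacter.isClassFunction (Char.irr_isCharacter _)), classInner]
  refine mul_eq_zero_of_right _ (sum_eq_zero_of_translate _ y hy1 fun x => ?_)
  simp only [Core.tw, map_mul, hy, mul_one, Char.trivialChar_apply, map_one]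
  ring

theorem Core.coeff_mu (β : K.X1 →* ℂ) (F : M → ℤ√(-2)) (χ : IrrCharacter G) : classInner (K.mu β F) χ.1 =
    (24 * K.r : ℂ)⁻¹ * ∑ x : K.X1, β x * emb (F (K.π (K.inX x))) * conj (χ.1 (x : G)) := by
  rw [Core.mu, Char.classInner_indFun _ _ (Char.IsCharacter.isClassFunction (Char.irr_isCharacter χ)), classInner,
    K.card_X1]
  push_cast
  rfl

end Cfsg.Agent.SuborbitThree
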