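import Cfsg.Agent.Lib.SuborbitThree.SDCore.CharSetup
import Cfsg.Agent.Lib.Char.Linear
import Mathlib.GroupTheory.FiniteAbelian.Duality
import Mathlib.GroupTheory.Transfer
import Mathlib.RingTheory.RootsOfUnity.AlgebraicallyClosed
import Mathlib.Analysis.Complex.Polynomial.Basic

/-!
Linear characters on the elements over determinant one extend every character of the odd core.
-/

set_option autoImplicit false
set_option linter.style.haveILetI false
set_option linter.unusedSectionVars false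

namespace Cfsg.Agent.SuborbitThree

open Cfsg Cfsg.Agent InvolCentGLTwoThree
open scoped Classical ComplexConjugate

universe u

variable {G : Type u} [Group G] [Fintype G] (K : Core G)

/-- The projection of `X1`. -/
noncomputable def Core.p1 : K.X1 →* M := K.π.comp K.inX

theorem Core.p1_apply (x : K.X1) : K.p1 x = K.π (K.inX x) := rfl

theorem Core.range_p1 : K.p1.range = M1 := by
  refine le_antisymm ?_ fun h (hh : dt h = 1) => ?_
  · rintro _ ⟨x, rfl⟩
    exact K.dt_X1 x
  · obtain ⟨x, rfl⟩ := K.surj h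
    exact ⟨⟨(x : G), (K.mem_X1_iff x).2 hh⟩, rfl⟩

theorem Core.central {o : K.X1} (ho : o ∈ K.p1.ker) (x : K.X1) : x * o = o * x :=
  Subgroup.inclusion_injective K.X1_le (by
    rw [map_mul, map_mul]
    exact K.cent _ (K.dt_X1 x) _ ho)

/-- An element of order six. -/
def g6 : M := ⟨2, 2, 0, 2, by decide⟩

theorem Core.card_ker_p1 : Nat.card K.p1.ker = K.r := by
  have h := K.p1.ker.card_mul_index
  rw [Subgroup.index_ker, K.range_p1, K.card_X1,
    show Nat.card M1 = 24 by
      rw [Nat.card_congr (Equiv.subtypeEquivRight (p := (· ∈ M1)) (q := fun h : M => dt h = 1) fun _ => Iff.rfl),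
        Nat.card_eq_fintype_card]
      decide +kernel] at h
  omega

theorem Core.odd_r : Odd K.r := K.odd

/-- Every linear character of the odd core extends to `X1`. -/
theorem Core.exists_extend (μ : K.p1.ker →* ℂ) : ∃ β : K.X1 →* ℂ, ∀ y : K.p1.ker, β (y : K.X1) = μ y := by
  set B : Subgroup K.X1 := (Subgroup.zpowers g6).comap K.p1 with hB
  have hg6 : g6 ∈ K.p1.range := by rw [K.range_p1]; show dt g6 = 1; decide
  obtain ⟨y₀, hy₀⟩ := hg6
  have hform : ∀ b ∈ B, ∃ (k : ℤ) (o : K.X1), o ∈ K.p1.ker ∧ b = y₀ ^ k * o := by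
    intro b hb
    obtain ⟨k, hk⟩ := hb
    refine ⟨k, (y₀ ^ k)⁻¹ * b, ?_, by group⟩
    rw [MonoidHom.mem_ker, map_mul, map_inv, map_zpow, hy₀, show g6 ^ k = K.p1 b from hk, inv_mul_cancel]
  letI : CommGroup B :=
    { (inferInstance : Group B) with
      mul_comm := fun a b => Subtype.ext (by
        obtain ⟨i, o, ho, ha⟩ := hform a a.2
        obtain ⟨j, o', ho', hb⟩ := hform b b.2
        show (a : K.X1) * b = b * a
        rw [ha, hb]
        have c1 : Commute (y₀ ^ i) o' := K.central ho' _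
        have c2 : Commute o (y₀ ^ j) := (K.central ho _).symm
        have c3 : Commute o o' := K.central ho' _
        have c4 : Commute (y₀ ^ i) (y₀ ^ j) := ((Commute.refl y₀).zpow_left i).zpow_right j
        exact (Commute.mul_left (c4.mul_right c1) (c2.mul_right c3)).eq) }
  have hidx : B.index = 4 := by
    have hle : Subgroup.zpowers g6 ≤ M1 := Subgroup.zpowers_le.2 (show dt g6 = 1 by decide)
    rw [hB, Subgroup.index_comap, K.range_p1]
    have h1 := ((Subgroup.zpowers g6).subgroupOf M1).card_mul_index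
    rw [Nat.card_congr (Subgroup.subgroupOfEquivOfLe hle).toEquiv, Nat.card_zpowers,
      show orderOf g6 = 6 by rw [orderOf_eq_iff (by norm_num)]; decide +kernel,
      show Nat.card M1 = 24 by
        rw [Nat.card_congr (Equiv.subtypeEquivRight (p := (· ∈ M1)) (q := fun h : M => dt h = 1) fun _ => Iff.rfl),
          Nat.card_eq_fintype_card]
        decide +kernel] at h1
    show ((Subgroup.zpowers g6).subgroupOf M1).index = 4
    omega
  set H : Subgroup B := K.p1.ker.subgroupOf B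
  obtain ⟨k, hk⟩ := K.odd_r
  let emb0 : H →* K.p1.ker :=
    { toFun := fun y => ⟨((y : B) : K.X1), y.2⟩
      map_one' := rfl
      map_mul' := fun _ _ => rfl }
  obtain ⟨φ, hφ⟩ := MonoidHom.domRestrict_surjective (M := ℂ) H
    ((μ.toHomUnits ^ ((k + 1) ^ 2)).comp emb0)
  refine ⟨(Units.coeHom ℂ).comp (MonoidHom.transfer φ), fun y => ?_⟩
  have hkey : ∀ (n : ℕ) (g₀ : K.X1), g₀⁻¹ * (y : K.X1) ^ n * g₀ ∈ B → g₀⁻¹ * (y : K.X1) ^ n * g₀ = (y : K.X1) ^ n :=
    fun n g₀ _ => by rw [mul_assoc, ← K.central (pow_mem y.2 n) g₀, inv_mul_cancel_left]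
  show ((MonoidHom.transfer φ (y : K.X1) : ℂˣ) : ℂ) = μ y
  rw [MonoidHom.transfer_eq_pow φ _ hkey]
  have hyB : (y : K.X1) ^ B.index ∈ K.p1.ker := pow_mem y.2 _
  have := congrArg (fun f : H →* ℂˣ => f ⟨⟨_, MonoidHom.transfer_eq_pow_aux (y : K.X1) hkey⟩, hyB⟩) hφ
  simp only [MonoidHom.domRestrictHom_apply, MonoidHom.domRestrict_apply, MonoidHom.comp_apply,
    MonoidHom.pow_apply] at this
  rw [this, Units.val_pow_eq_pow_val, MonoidHom.coe_toHomUnits]
  refine (congrArg (fun w => μ w ^ ((k + 1) ^ 2))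
    (show emb0 ⟨⟨_, MonoidHom.transfer_eq_pow_aux (y : K.X1) hkey⟩, hyB⟩ = y ^ B.index from rfl)).trans ?_
  simp only [map_pow, ← pow_mul, hidx]
  have hr : μ y ^ K.r = 1 := by rw [← K.card_ker_p1, ← map_pow, pow_card_eq_one', map_one]
  rw [show 4 * (k + 1) ^ 2 = (2 * k + 1) * (2 * k + 3) + 1 by ring, pow_succ, pow_mul, ← hk, hr, one_pow, one_mul]

/-- The cubic coordinate on determinant one. -/
def w3 (h : M) : ℕ :=
  let q := h * h * (h * h)
  if q = 1 then 0 else
    (let u : M := ⟨1, 2, 0, 1, by decide⟩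
     if (h * u) * (h * u) * ((h * u) * (h * u)) = 1 then 1 else 2)

theorem w3_mul : ∀ a b : M, dt a = 1 → dt b = 1 → w3 (a * b) = (w3 a + w3 b) % 3 := by decide +kernel

theorem w3_facts : w3 1 = 0 ∧ ∀ h : M, w3 h < 3 := by decide +kernel

/-- A primitive cube root of unity. -/
noncomputable def zeta3 : ℂ := Complex.exp (2 * Real.pi * Complex.I / (3 : ℕ))

theorem zeta3_prim : IsPrimitiveRoot zeta3 3 := Complex.isPrimitiveRoot_exp 3 (by norm_num)

/-- The cubic character of `X1`. -/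
noncomputable def Core.omega : K.X1 →* ℂ where
  toFun x := zeta3 ^ w3 (K.p1 x)
  map_one' := by rw [map_one, w3_facts.1, pow_zero]
  map_mul' x y := by
    rw [map_mul, w3_mul (K.p1 x) (K.p1 y) (K.dt_X1 x) (K.dt_X1 y), ← pow_add]
    conv_rhs => rw [← Nat.mod_add_div (w3 (K.p1 x) + w3 (K.p1 y)) 3, pow_add, pow_mul, zeta3_prim.pow_eq_one,
      one_pow, mul_one]

theorem Core.omega_sum (x : K.X1) :
    1 + K.omega x + K.omega x ^ 2 = if w3 (K.p1 x) = 0 then 3 else 0 := by
  show 1 + zeta3 ^ w3 (K.p1 x) + (zeta3 ^ w3 (K.p1 x)) ^ 2 = _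
  have hgeo : 1 + zeta3 + zeta3 ^ 2 = 0 := by
    have := zeta3_prim.geom_sum_eq_zero (by norm_num)
    simpa [Finset.sum_range_succ] using this
  have := w3_facts.2 (K.p1 x)
  obtain h | h | h : w3 (K.p1 x) = 0 ∨ w3 (K.p1 x) = 1 ∨ w3 (K.p1 x) = 2 := by omega
  · rw [h, if_pos rfl]; ring
  · rw [h, if_neg (by norm_num), pow_one]; exact hgeo
  · have h3 : zeta3 ^ 3 = 1 := zeta3_prim.pow_eq_one
    rw [h, if_neg (by norm_num)]
    linear_combination hgeo + zeta3 * h3

theorem Core.omega_ker {y : K.X1} (hy : K.p1 y = 1) : K.omega y = 1 := by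
  show zeta3 ^ w3 (K.p1 y) = 1
  rw [hy, w3_facts.1, pow_zero]

theorem indicator_z1 : ∀ h : M, dt h = 1 →
    (if w3 h = 0 then 6 * fB h else 0) - 3 * fA h = if h = z then 24 else 0 := by decide +kernel

end Cfsg.Agent.SuborbitThree
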