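import Cfsg.Agent.Lib.SuborbitThree.SDCore.Solvable
import Cfsg.Agent.Lib.SuborbitThree.Tools
import Cfsg.Agent.Lib.InvolCentGLTwoThree.Model
import Cfsg.Agent.Lib.GL23.QuaternionRadical
import Cfsg.Agent.Lib.QDFusion.IndexTwo
import Cfsg.Agent.Lib.QDFusion.Basic
import Cfsg.Agent.Lib.GW.KType
import Cfsg.Agent.Lib.PCore.Basic
import Cfsg.Agent.Lib.FTConsumersB.KleinFour
import Cfsg.Agent.Lib.Involution.QuaternionFactor
import Cfsg.Agent.S1190
import Cfsg.Agent.S1191
import Cfsg.Agent.S1213
import Cfsg.Agent.S2427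
import Cfsg.Agent.S2879
import Cfsg.Agent.S3116

/-!
A simple group with semidihedral Sylow 2-subgroups and a self-centralising four-group:
an involution centraliser modulo its odd core is `GL(2, 3)`.
-/

set_option autoImplicit false
set_option linter.style.haveILetI false
set_option linter.unusedSectionVars false

namespace Cfsg.Agent.SuborbitThree

open Subgroup InvolCentGLTwoThree

universe u

variable {G : Type u} [Group G] [Finite G]

/-- The local data: an involution centraliser mapped onto the model of `GL(2, 3)` with an odd kernel. -/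
structure Core (G : Type u) [Group G] where
  c : G
  hc : orderOf c = 2
  π : centralizer ({c} : Set G) →* M
  surj : Function.Surjective π
  map_c : π ⟨c, mem_centralizer_singleton_iff.2 rfl⟩ = z
  odd : Odd (Nat.card π.ker)
  cent : ∀ x, dt (π x) = 1 → ∀ o ∈ π.ker, x * o = o * x
  inv : ∀ x, dt (π x) ≠ 1 → ∀ o ∈ π.ker, x * o * x⁻¹ = o⁻¹
  one : ∀ u : G, orderOf u = 2 → IsConj c u
  two : (Nat.card G).factorization 2 = 4

/-- All four-groups are self-centralising. -/
theorem cent_four (S : Sylow 2 G) (hS : Cfsg.IsQuasiDihedral (S : Subgroup G)) (V : Subgroup G)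
    (hV : IsKleinFour V) (hVS : V ≤ (S : Subgroup G)) (hCV : centralizer (V : Set G) = V)
    (W : Subgroup G) (hW : IsKleinFour W) : Nat.card (centralizer (W : Set G)) = 4 := by
  haveI : Fact (Nat.Prime 2) := ⟨Nat.prime_two⟩
  obtain ⟨R, hR⟩ := (IsPGroup.of_card (n := 2) (by rw [hW.card_four]; rfl) : IsPGroup 2 W).exists_le_sylow
  obtain ⟨g, hg⟩ := MulAction.exists_smul_eq G R S
  have hWS : W.map (MulAut.conj g).toMonoidHom ≤ (S : Subgroup G) := by
    rintro _ ⟨w, hw, rfl⟩
    rw [← hg]
    exact ⟨w, hR hw, rfl⟩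
  set W' := W.map (MulAut.conj g).toMonoidHom
  have hk : ∀ (T : Subgroup G), Nat.card T = 4 → (∀ t ∈ T, t ^ 2 = 1) → T ≤ (S : Subgroup G) →
      IsKleinFour (T.subgroupOf (S : Subgroup G)) := fun T h4 h2 hle => by
    have e := subgroupOfEquivOfLe hle
    refine ⟨by rw [Nat.card_congr e.toEquiv, h4], ?_⟩
    rw [Monoid.exponent_eq_of_mulEquiv e]
    refine ((Nat.dvd_prime Nat.prime_two).1 (Monoid.exponent_dvd_of_forall_pow_eq_one fun t =>
      Subtype.ext (h2 t t.2))).resolve_left fun h1 => ?_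
    have : Subsingleton T := Monoid.exp_eq_one_iff.1 h1
    rw [Nat.card_of_subsingleton (1 : T)] at h4
    omega
  have hsq : ∀ t ∈ W', t ^ 2 = 1 := by
    rintro _ ⟨w, hw, rfl⟩
    have h0 : (⟨w, hw⟩ : W) ^ 2 = 1 := hW.exponent_two ▸ Monoid.pow_exponent_eq_one _
    have h1 : w ^ 2 = 1 := congrArg Subtype.val h0
    rw [← map_pow, h1, map_one]
  have hV2 : ∀ t ∈ V, t ^ 2 = 1 := fun t ht => by
    have h0 : (⟨t, ht⟩ : V) ^ 2 = 1 := hV.exponent_two ▸ Monoid.pow_exponent_eq_one _
    exact congrArg Subtype.val h0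
  obtain ⟨s, hs⟩ := (S1190.result hS).1 (W'.subgroupOf (S : Subgroup G)) (V.subgroupOf (S : Subgroup G))
    (hk W' (by rw [card_map_of_injective (MulAut.conj g).injective, hW.card_four]) hsq hWS)
    (hk V hV.card_four hV2 hVS)
  have hmap : W.map (MulAut.conj ((s : G) * g)).toMonoidHom = V := by
    have h1 := congrArg (Subgroup.map (S : Subgroup G).subtype) hs
    rw [subgroupOf_map_subtype, inf_eq_left.2 hVS, map_map,
      show (S : Subgroup G).subtype.comp (MulAut.conj s).toMonoidHom =
        (MulAut.conj (s : G)).toMonoidHom.comp (S : Subgroup G).subtype from MonoidHom.ext fun _ => rfl,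
      ← map_map, subgroupOf_map_subtype, inf_eq_left.2 hWS, map_map] at h1
    rw [← h1, map_mul]
    rfl
  have hle : (centralizer (W : Set G)).map (MulAut.conj ((s : G) * g)).toMonoidHom = V := by
    refine le_antisymm ?_ ?_
    · rintro _ ⟨y, hy, rfl⟩
      rw [← hCV]
      refine mem_centralizer_iff.2 fun v hv => ?_
      rw [← hmap] at hv
      obtain ⟨w, hw, rfl⟩ := hv
      rw [← map_mul, ← map_mul, mem_centralizer_iff.1 hy w hw]
    · rw [← hmap]
      refine map_mono fun w hw => mem_centralizer_iff.2 fun w' hw' => ?_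
      have : IsMulCommutative W := ⟨⟨mul_comm_of_exponent_two hW.exponent_two⟩⟩
      exact congrArg Subtype.val (this.is_comm.comm (⟨w', hw'⟩ : W) ⟨w, hw⟩)
  rw [← hV.card_four, ← hle, card_map_of_injective (MulAut.conj _).injective]

/-- The centraliser modulo its odd core. -/
theorem quotient_shape {H : Type u} [Group H] [Finite H] (hsol : Group.IsSolvable H)
    (hO : Cfsg.oddCore H = ⊥) (T : Sylow 2 H) (hT : Cfsg.IsQuasiDihedral (T : Subgroup H))
    (hne : (T : Subgroup H) ≠ ⊤) {z' b : H} (hz : ∀ g : H, g * z' = z' * g) (hz1 : z' ≠ 1)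
    (hz2 : z' * z' = 1) (hb : b * b = 1) (hb1 : b ≠ 1) (hbz : b ≠ z') :
    Nonempty (H ≃* GL (Fin 2) (ZMod 3)) := by
  haveI : Fact (Nat.Prime 2) := ⟨Nat.prime_two⟩
  obtain ⟨x, y, m, hqd⟩ := TwoGroups.exists_qdGen hT
  have hzT : z' ∈ (T : Subgroup H) := by
    obtain ⟨R, hR⟩ := (IsPGroup.of_card (n := 1) (by
      rw [Nat.card_zpowers, orderOf_eq_prime (by rw [sq]; exact hz2) hz1, pow_one]) :
      IsPGroup 2 (zpowers z')).exists_le_sylow
    obtain ⟨g, hg⟩ := MulAction.exists_smul_eq H R T
    rw [← hg]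
    exact ⟨z', hR (mem_zpowers _), by simp [hz g]⟩
  have hcenter : (T : Subgroup H) ⊓ centralizer ((T : Subgroup H) : Set H) =
      (center (T : Subgroup H)).map (T : Subgroup H).subtype := by
    ext t
    constructor
    · rintro ⟨ht, htc⟩
      exact ⟨⟨t, ht⟩, mem_center_iff.2 fun u => Subtype.ext (mem_centralizer_iff.1 htc u u.2), rfl⟩
    · rintro ⟨⟨t, ht⟩, htc, rfl⟩
      exact ⟨ht, mem_centralizer_iff.2 fun u hu =>
        congrArg Subtype.val (mem_center_iff.1 htc ⟨u, hu⟩)⟩
  have hZ : (T : Subgroup H) ⊓ centralizer ((T : Subgroup H) : Set H) = zpowers z' := by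
    refine (eq_of_le_of_card_ge (zpowers_le.2 ?_) ?_).symm
    · exact ⟨hzT, mem_centralizer_iff.2 fun u _ => hz u⟩
    · rw [hcenter, card_map_of_injective (subtype_injective _), hqd.card_center, Nat.card_zpowers,
        orderOf_eq_prime (by rw [sq]; exact hz2) hz1]
  have hZn : ((T : Subgroup H) ⊓ centralizer ((T : Subgroup H) : Set H)).Normal := by
    rw [hZ]
    refine ⟨fun w hw g => ?_⟩
    obtain ⟨i, rfl⟩ := hw
    refine ⟨i, ?_⟩
    show z' ^ i = g * z' ^ i * g⁻¹
    rw [((show Commute g z' from hz g).zpow_right i).eq, mul_inv_cancel_right]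
  obtain ⟨U, hU, ⟨e⟩⟩ := S2879.result hsol hO T (Or.inr hT) hne hZn
  haveI := hU
  obtain ⟨hc24, -, hc8, ⟨eQ⟩, -, -⟩ := S2427.result
  set Q := (commutator U).map U.subtype with hQdef
  haveI hQn : Q.Normal := by
    rw [hQdef, map_subtype_commutator]
    infer_instance
  let eQ' : Q ≃* QuaternionGroup 2 :=
    ((equivMapOfInjective _ _ (subtype_injective U)).symm.trans
      ((MulEquiv.subgroupMap e (commutator U)).trans (MulEquiv.subgroupCongr (by
        rw [commutator_def, map_commutator, ← MonoidHom.range_eq_map,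
          MonoidHom.range_eq_top.2 e.surjective]
        rfl)))).trans eQ
  have hQ8 : Nat.card Q = 8 := by
    rw [Nat.card_congr eQ'.toEquiv, Nat.card_eq_fintype_card, QuaternionGroup.card]
  have hQ2 : IsPGroup 2 Q := IsPGroup.of_card (n := 3) (by rw [hQ8]; rfl)
  have hQT : Q ≤ (T : Subgroup H) := (PCore.le_pCore hQ2).trans (PCore.pCore_le_sylow T)
  have huniq : ∀ a b : Q, orderOf a = 2 → orderOf b = 2 → a = b := by
    intro a b ha hb
    have ha2 : a ^ 2 = 1 := orderOf_dvd_iff_pow_eq_one.1 ha.dvd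
    have hb2' : b ^ 2 = 1 := orderOf_dvd_iff_pow_eq_one.1 hb.dvd
    refine eQ'.injective (TwoGroups.QDGen.quaternion_unique _ _ ?_ ?_ ?_ ?_)
    · rw [← map_pow, ha2, map_one]
    · rw [← map_pow, hb2', map_one]
    · intro q; rw [map_eq_one_iff eQ' eQ'.injective] at q; rw [q, orderOf_one] at ha; omega
    · intro q; rw [map_eq_one_iff eQ' eQ'.injective] at q; rw [q, orderOf_one] at hb; omega
  -- the centraliser of `Q`
  set C := centralizer (Q : Set H) with hCdef
  haveI hCn : C.Normal := inferInstance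
  have hCT : Nat.card (C.subgroupOf (T : Subgroup H)) = 2 := by
    let eT : Q.subgroupOf (T : Subgroup H) ≃* QuaternionGroup 2 := (subgroupOfEquivOfLe hQT).trans eQ'
    obtain ⟨h1, -⟩ := (S1191.result hT).2 _ ⟨eT⟩
    have h2 : C.subgroupOf (T : Subgroup H) = centralizer (Q.subgroupOf (T : Subgroup H) : Set (T : Subgroup H)) := by
      ext t
      constructor
      · intro ht
        exact mem_centralizer_iff.2 fun q hq => Subtype.ext (mem_centralizer_iff.1 ht q hq)
      · intro ht
        exact mem_centralizer_iff.2 fun q hq =>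
          congrArg Subtype.val (mem_centralizer_iff.1 ht ⟨q, hQT hq⟩ hq)
    rw [h2, h1, card_map_of_injective (subtype_injective _),
      Nat.card_congr (MulEquiv.subgroupMap eT (center _)).toEquiv,
      show (center (Q.subgroupOf (T : Subgroup H))).map (eT : _ →* _) = center (QuaternionGroup 2) from ?_]
    · rw [Nat.card_eq_fintype_card]; decide
    · ext q
      show q ∈ (center _).map eT.toMonoidHom ↔ _
      rw [mem_map_equiv, mem_center_iff, mem_center_iff]
      constructor
      · intro hq r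
        have := congrArg eT (hq (eT.symm r))
        simpa using this
      · intro hq r
        apply eT.injective
        simpa using hq (eT r)
  have hC2 : Nat.card C = 2 := by
    have hd : Nat.card C % 4 = 2 ∧ ∀ P : Sylow 2 C, Nat.card (P : Subgroup C) = 2 := by
      have hP : ∀ P : Sylow 2 C, Nat.card (P : Subgroup C) = 2 := by
        intro P
        obtain ⟨R, hR⟩ := (P.2.map C.subtype).exists_le_sylow
        obtain ⟨g, hg⟩ := MulAction.exists_smul_eq H R T
        have hle : ((P : Subgroup C).map C.subtype).map (MulAut.conj g).toMonoidHom ≤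
            C ⊓ (T : Subgroup H) := by
          rintro _ ⟨_, ⟨p, hp, rfl⟩, rfl⟩
          refine ⟨hCn.conj_mem _ p.2 g, ?_⟩
          rw [← hg]
          exact ⟨(p : H), hR ⟨p, hp, rfl⟩, rfl⟩
        have h1 := card_dvd_of_le hle
        rw [card_map_of_injective (MulAut.conj g).injective, card_map_of_injective (subtype_injective C),
          ← subgroupOf_map_subtype, card_map_of_injective (subtype_injective _)] at h1
        · rw [hCT] at h1
          rcases (Nat.dvd_prime Nat.prime_two).1 h1 with q | q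
          · exfalso
            have hzC : z' ∈ C := mem_centralizer_iff.2 fun w _ => hz w
            refine P.ne_bot_of_dvd_card ?_ (card_eq_one.1 q)
            rw [← orderOf_eq_prime (show (⟨z', hzC⟩ : C) ^ 2 = 1 from Subtype.ext (by
              rw [SubgroupClass.coe_pow, sq]; exact hz2)) fun w => hz1 (congrArg Subtype.val w)]
            exact orderOf_dvd_natCard _
          · exact q
      obtain ⟨P⟩ := (inferInstance : Nonempty (Sylow 2 C))
      have h1 := P.not_dvd_index
      have h2 := (P : Subgroup C).card_mul_index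
      rw [hP P] at h2
      exact ⟨by omega, hP⟩
    obtain ⟨P, N, hN, hc⟩ := GW.hasNormalPComplement_of_cyclic_two (Classical.arbitrary (Sylow 2 C))
      (isCyclic_of_prime_card (p := 2) (hd.2 _))
    haveI := hN
    have hNodd : Odd (Nat.card N) := by
      refine Nat.not_even_iff_odd.1 fun he => P.not_dvd_index ?_
      rw [hc.index_eq_card]
      exact even_iff_two_dvd.1 he
    have hbot : (Cfsg.oddCore C).map C.subtype = ⊥ := by
      haveI : ((Cfsg.oddCore C).map C.subtype).Normal := ConjAct.normal_of_characteristic_of_normal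
      rw [eq_bot_iff, ← hO]
      exact PCore.le_oddCore (by rw [card_map_of_injective (subtype_injective C)]; exact PCore.odd_card_oddCore)
    rw [map_eq_bot_iff_of_injective _ (subtype_injective C)] at hbot
    have hNbot : N = ⊥ := le_bot_iff.1 (hbot ▸ PCore.le_oddCore hNodd)
    subst hNbot
    rw [← hd.2 P, isComplement'_bot_left.1 hc, card_top]
  have hC : C ≤ Q := by
    have hzQ : z' ∈ Q := by
      obtain ⟨q, hq⟩ := exists_prime_orderOf_dvd_card' (G := Q) 2 (by rw [hQ8]; norm_num)
      have hq' : orderOf (q : H) = 2 := (orderOf_coe q).trans hq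
      have hqC : (q : H) ∈ C := mem_centralizer_iff.2 fun w hw => by
        have hm : w * (q : H) * w⁻¹ ∈ Q := hQn.conj_mem _ q.2 w
        have h1 : (⟨_, hm⟩ : Q) = q := huniq _ _
          (by rw [orderOf_mk, ← MulAut.conj_apply, MulEquiv.orderOf_eq, hq']) hq
        exact mul_inv_eq_iff_eq_mul.1 (congrArg Subtype.val h1)
      have hz' : orderOf z' = 2 := orderOf_eq_prime (by rw [sq]; exact hz2) hz1
      have hCz : zpowers z' = C := eq_of_le_of_card_ge (zpowers_le.2 (mem_centralizer_iff.2 fun w _ => hz w))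
        (by rw [hC2, Nat.card_zpowers, hz'])
      rw [← EvenCyclicNorm.involution_unique hq' hz' (hCz ▸ hqC) (mem_zpowers _)]
      exact q.2
    have : zpowers z' = C := eq_of_le_of_card_ge (zpowers_le.2 (mem_centralizer_iff.2 fun w _ => hz w))
      (by rw [hC2, Nat.card_zpowers, orderOf_eq_prime (by rw [sq]; exact hz2) hz1])
    rw [← this]
    exact zpowers_le.2 hzQ
  have hns : ¬ ∃ P : Sylow 2 H, (P : Subgroup H).Normal := by
    rintro ⟨P, hP⟩
    haveI := hP
    haveI := Sylow.unique_of_normal P hP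
    have hPT : P = T := Subsingleton.elim P T
    subst hPT
    obtain ⟨g, hg⟩ := exists_prime_orderOf_dvd_card' (G := U) 3 (by
      rw [Nat.card_congr e.toEquiv, hc24]; norm_num)
    have hg' : orderOf (g : H) = 3 := (orderOf_coe g).trans hg
    obtain ⟨j, hj⟩ := S3116.result P.2 (Or.inr hT) (MulAut.conjNormal (H := (P : Subgroup H)) (g : H))
    have h3 : (MulAut.conjNormal (H := (P : Subgroup H)) (g : H)) ^ 3 = 1 := by
      rw [← map_pow, ← hg', pow_orderOf_eq_one, map_one]
    have h1 : orderOf (MulAut.conjNormal (H := (P : Subgroup H)) (g : H)) = 1 :=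
      Nat.eq_one_of_dvd_coprimes (Nat.Coprime.pow_left j (by norm_num : Nat.Coprime 2 3))
        (orderOf_dvd_of_pow_eq_one hj) (orderOf_dvd_of_pow_eq_one h3)
    rw [orderOf_eq_one_iff] at h1
    have hgQ : (g : H) ∈ Q := hC (mem_centralizer_iff.2 fun q hq => by
      have := congrArg (fun φ : MulAut (P : Subgroup H) => ((φ ⟨q, hQT hq⟩ : (P : Subgroup H)) : H)) h1
      simp only [MulAut.conjNormal_apply, MulAut.one_apply] at this
      exact (mul_inv_eq_iff_eq_mul.1 this).symm)
    have := orderOf_dvd_natCard (⟨(g : H), hgQ⟩ : Q)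
    rw [orderOf_mk, hg', hQ8] at this
    norm_num at this
  refine GL23.nonempty_GL23 hQn hQ2 huniq hC hns hb fun hbQ => hbz ?_
  have hzQ : z' ∈ Q := hC (mem_centralizer_iff.2 fun w _ => hz w)
  exact congrArg Subtype.val (huniq ⟨b, hbQ⟩ ⟨z', hzQ⟩
    (by rw [orderOf_mk]; exact orderOf_eq_prime (by rw [sq]; exact hb) hb1)
    (by rw [orderOf_mk]; exact orderOf_eq_prime (by rw [sq]; exact hz2) hz1))

/-- **Shape of the centraliser.** -/
theorem exists_core [IsSimpleGroup G] (hns : ¬ Group.IsSolvable G) (S : Sylow 2 G)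
    (hS : Cfsg.IsQuasiDihedral (S : Subgroup G)) (V : Subgroup G) (hV : IsKleinFour V)
    (hVS : V ≤ (S : Subgroup G)) (hCV : centralizer (V : Set G) = V) : Nonempty (Core G) := by
  classical
  haveI : Fact (Nat.Prime 2) := ⟨Nat.prime_two⟩
  obtain ⟨x, y, m, hqd⟩ := TwoGroups.exists_qdGen hS
  have hnoidx : ∀ H : Subgroup G, H.index ≠ 2 := by
    intro H hH
    haveI := normal_of_index_eq_two hH
    rcases Subgroup.Normal.eq_bot_or_eq_top (inferInstance : H.Normal) with q | q
    · refine hns (solvable_small ?_)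
      rw [q, index_bot] at hH
      omega
    · rw [q, index_top] at hH; omega
  have hone0 : IsConj ((QDFusion.zz x m : (S : Subgroup G)) : G) ((x ^ (0 : ℤ) * y : (S : Subgroup G)) : G) := by
    by_contra hne
    obtain ⟨M', -, hM', -⟩ := QDFusion.exists_index_two_missing_involution hqd hne
    exact hnoidx M' hM'
  have hfour : IsConj ((QDFusion.aa x m : (S : Subgroup G)) : G) ((x ^ (1 : ℤ) * y : (S : Subgroup G)) : G) := by
    by_contra hne
    obtain ⟨M', -, hM', -⟩ := QDFusion.exists_index_two_missing_four hqd hne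
    exact hnoidx M' hM'
  set c : G := ((QDFusion.zz x m : (S : Subgroup G)) : G) with hcdef
  have hc2 : orderOf c = 2 := QDFusion.orderOf_zz hqd
  have hcc : c * c = 1 := by rw [← sq, ← hc2, pow_orderOf_eq_one]
  have hone : ∀ u : G, orderOf u = 2 → IsConj c u := by
    intro u hu
    rcases QDFusion.isConj_involution hqd hu with q | q
    · exact q.symm
    · exact hone0.trans q.symm
  set X := centralizer ({c} : Set G) with hXdef
  have hcz : (QDFusion.zz x m : (S : Subgroup G)) ∈ center (S : Subgroup G) := (hqd.x_mem_center_iff _).2 dvd_rfl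
  have hSX : (S : Subgroup G) ≤ X := fun s hs => mem_centralizer_singleton_iff.2
    (congrArg Subtype.val (mem_center_iff.1 hcz ⟨s, hs⟩))
  have hcV : c ∈ V := by
    rw [← hCV]
    exact mem_centralizer_iff.2 fun v hv => congrArg Subtype.val (mem_center_iff.1 hcz ⟨v, hVS hv⟩)
  obtain ⟨b, hbV, hb1, hbc⟩ : ∃ b ∈ V, b ≠ 1 ∧ b ≠ c := by
    by_contra hcon
    push Not at hcon
    have : V ≤ zpowers c := fun v hv => by
      by_cases h1 : v = 1
      · rw [h1]; exact one_mem _
      · rw [hcon v hv h1]; exact mem_zpowers _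
    have h1 := Nat.le_of_dvd Nat.card_pos (card_dvd_of_le this)
    rw [hV.card_four, Nat.card_zpowers, hc2] at h1
    omega
  have hV2 : ∀ t ∈ V, t * t = 1 := fun t ht => by
    have h0 : (⟨t, ht⟩ : V) ^ 2 = 1 := hV.exponent_two ▸ Monoid.pow_exponent_eq_one _
    rw [← sq]; exact congrArg Subtype.val h0
  have hb2 := hV2 b hbV
  have hbX : b ∈ X := hSX (hVS hbV)
  have hclos : closure ({c, b} : Set G) = V := by
    refine eq_of_le_of_card_ge ((closure_le _).2 (Set.insert_subset hcV (Set.singleton_subset_iff.2 hbV))) ?_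
    rw [hV.card_four]
    have hd := card_dvd_of_le (zpowers_le.2 (subset_closure (by simp)) : zpowers c ≤ closure ({c, b} : Set G))
    rw [Nat.card_zpowers, hc2] at hd
    have hne2 : Nat.card (closure ({c, b} : Set G)) ≠ 2 := fun q => hbc (by
      have heq : zpowers c = closure ({c, b} : Set G) :=
        eq_of_le_of_card_ge (zpowers_le.2 (subset_closure (by simp))) (by rw [q, Nat.card_zpowers, hc2])
      have hbz : b ∈ zpowers c := heq ▸ subset_closure (by simp)
      exact EvenCyclicNorm.involution_unique (orderOf_eq_prime (by rw [sq]; exact hb2) hb1) hc2 hbz (mem_zpowers _))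
    have hd4 := card_dvd_of_le ((closure_le _).2 (Set.insert_subset hcV (Set.singleton_subset_iff.2 hbV)) :
      closure ({c, b} : Set G) ≤ V)
    rw [hV.card_four] at hd4
    have := Nat.le_of_dvd (by norm_num) hd4
    interval_cases hq : Nat.card (closure ({c, b} : Set G)) <;> omega
  have hCbc : ∀ g : G, g * c = c * g → g * b = b * g → g ∈ V := fun g h1 h2 => by
    rw [← hCV, ← hclos, centralizer_closure]
    refine mem_centralizer_iff.2 ?_
    rintro v (rfl | rfl)
    · exact h1.symm
    · exact h2.symm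
  -- solvability
  obtain ⟨R, hR, ⟨L, hLn, ⟨a, ha⟩, -, hLQ⟩, -⟩ := S1213.result S (Or.inl hS) hnoidx c hc2
  haveI := hLn
  have hVL : ¬ ∀ v ∈ V, ∀ hv : v ∈ X, (⟨v, hv⟩ : X) ∈ L := by
    intro hall
    have hle : V.subgroupOf X ≤ L := fun v hv => hall v hv v.2
    have hP : IsPGroup 2 ((V.subgroupOf X).subgroupOf L) := by
      refine IsPGroup.of_card (n := 2) ?_
      rw [Nat.card_congr (subgroupOfEquivOfLe hle).toEquiv,
        Nat.card_congr (subgroupOfEquivOfLe (hVS.trans hSX)).toEquiv, hV.card_four]; rfl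
    obtain ⟨P, hPle⟩ := hP.exists_le_sylow
    obtain ⟨k, hk, ⟨eP⟩⟩ := hLQ P
    have key : ∀ v ∈ V, ∀ hv1 : v ≠ 1, ∀ hv : v ∈ X, ∃ p : (P : Subgroup L),
        (((p : L) : X) : G) = v ∧ eP p * eP p = 1 ∧ eP p ≠ 1 := by
      intro v hv hv1 hvX
      refine ⟨⟨⟨⟨v, hvX⟩, hall v hv hvX⟩, hPle hv⟩, rfl, ?_, ?_⟩
      · rw [← map_mul, map_eq_one_iff eP eP.injective]
        exact Subtype.ext (Subtype.ext (Subtype.ext (hV2 v hv)))
      · rw [ne_eq, map_eq_one_iff eP eP.injective]
        exact fun q => hv1 (congrArg (fun p : (P : Subgroup L) => (((p : L) : X) : G)) q)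
    obtain ⟨p, hp, hp2, hp1⟩ := key c hcV (fun q => by rw [q, orderOf_one] at hc2; omega) (hSX (hVS hcV))
    obtain ⟨q, hq, hq2, hq1⟩ := key b hbV hb1 hbX
    have : p = q := eP.injective ((QuaternionFactor.quat_involution (by rw [sq]; exact hp2) hp1).trans
      (QuaternionFactor.quat_involution (by rw [sq]; exact hq2) hq1).symm)
    exact hbc (by rw [← hp, ← hq, this])
  set bX : X := ⟨b, hbX⟩
  have hsolL : Group.IsSolvable L := by
    refine isSolvable_of_invol L (b := bX) (Subtype.ext hb2) ?_ ?_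
    · refine mem_normalizer_iff.2 fun w => ⟨fun hw => hLn.conj_mem _ hw _, fun hw => ?_⟩
      have := hLn.conj_mem _ hw bX⁻¹
      simpa [mul_assoc] using this
    · have hle : (L ⊓ centralizer ({bX} : Set X)).map X.subtype ≤ V := by
        rintro _ ⟨w, ⟨-, hw⟩, rfl⟩
        exact hCbc _ (mem_centralizer_singleton_iff.1 w.2)
          (congrArg Subtype.val (mem_centralizer_singleton_iff.1 hw))
      have h4 := card_dvd_of_le hle
      rw [card_map_of_injective (subtype_injective X), hV.card_four] at h4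
      have hne4 : Nat.card (L ⊓ centralizer ({bX} : Set X) : Subgroup X) ≠ 4 := fun q => hVL fun v hv hvX => by
        have heq := eq_of_le_of_card_ge hle (by rw [card_map_of_injective (subtype_injective X), q, hV.card_four])
        obtain ⟨w, hw, hwv⟩ := heq.ge hv
        rw [show (⟨v, hvX⟩ : X) = w from Subtype.ext hwv.symm]
        exact hw.1
      have := Nat.le_of_dvd (by norm_num) h4
      interval_cases hq : Nat.card (L ⊓ centralizer ({bX} : Set X) : Subgroup X) <;> omega
  haveI : Group.IsSolvable X := by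
    haveI := hsolL
    haveI : Group.IsNilpotent (X ⧸ L) := (IsPGroup.of_card (n := a) ha : IsPGroup 2 (X ⧸ L)).isNilpotent
    exact Group.isSolvable_of_ker_le_range L.subtype (QuotientGroup.mk' L)
      (by rw [QuotientGroup.ker_mk', range_subtype])
  -- the quotient by the odd core
  set O := Cfsg.oddCore X with hOdef
  have hOodd : Odd (Nat.card O) := PCore.odd_card_oddCore
  haveI : Group.IsSolvable (X ⧸ O) := Group.isSolvable_of_surjective (QuotientGroup.mk'_surjective O)
  set cX : X := ⟨c, hSX (hVS hcV)⟩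
  have hodd2 : ∀ w : X, w ∈ O → ∀ j : ℕ, w ^ (2 ^ j) = 1 → w = 1 := by
    intro w hw j hj
    refine orderOf_eq_one_iff.1 (Nat.eq_one_of_dvd_coprimes
      (Nat.Coprime.pow_left j (Nat.coprime_two_left.2 hOodd)) (orderOf_dvd_of_pow_eq_one hj) ?_)
    rw [← orderOf_mk w hw]
    exact orderOf_dvd_natCard _
  let S' : Sylow 2 X := S.subtype hSX
  let T : Sylow 2 (X ⧸ O) := S'.mapSurjective (QuotientGroup.mk'_surjective O)
  let f : (S : Subgroup G) →* X ⧸ O := (QuotientGroup.mk' O).comp (inclusion hSX)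
  have hf : Function.Injective f := by
    rw [injective_iff_map_eq_one]
    intro s hs
    obtain ⟨j, hj⟩ := S.2 s
    have := hodd2 (inclusion hSX s) ((QuotientGroup.eq_one_iff _).1 hs) j (by rw [← map_pow, hj, map_one])
    exact inclusion_injective hSX (this.trans (map_one _).symm)
  have hTeq : f.range = (T : Subgroup (X ⧸ O)) := by
    show f.range = ((S : Subgroup G).subgroupOf X).map (QuotientGroup.mk' O)
    ext w
    constructor
    · rintro ⟨s, rfl⟩
      exact ⟨inclusion hSX s, s.2, rfl⟩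
    · rintro ⟨s, hs, rfl⟩
      exact ⟨⟨_, hs⟩, rfl⟩
  let eT : (S : Subgroup G) ≃* (T : Subgroup (X ⧸ O)) :=
    (MonoidHom.ofInjective hf).trans (MulEquiv.subgroupCongr hTeq)
  have hTqd : Cfsg.IsQuasiDihedral (T : Subgroup (X ⧸ O)) := by
    obtain ⟨n, hn, hcard, s1, s2, h1, h2, h3⟩ := hS
    refine ⟨n, hn, by rw [← Nat.card_congr eT.toEquiv, hcard], eT s1, eT s2,
      by rw [MulEquiv.orderOf_eq, h1], by rw [MulEquiv.orderOf_eq, h2], ?_⟩
    rw [← map_inv, ← map_mul, ← map_mul, h3, map_pow]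
  have hne : (T : Subgroup (X ⧸ O)) ≠ ⊤ := by
    intro htop
    obtain ⟨g, hg⟩ := isConj_iff.1 hfour
    have hgX : g ∈ X := by
      have ha2 : (QDFusion.aa x m : (S : Subgroup G)) ^ 2 = QDFusion.zz x m := by
        rw [← zpow_natCast, ← zpow_mul]; congr 1; push_cast; ring
      have hxy2 : (x ^ (1 : ℤ) * y : (S : Subgroup G)) ^ 2 = QDFusion.zz x m := by
        rw [hqd.xy_sq, mul_one]
      have h2 := congrArg (fun w => w ^ 2) hg
      simp only [conj_pow] at h2
      rw [← SubgroupClass.coe_pow, ← SubgroupClass.coe_pow, ha2, hxy2] at h2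
      exact mem_centralizer_singleton_iff.2 (mul_inv_eq_iff_eq_mul.1 h2)
    have hmem : QuotientGroup.mk' O (⟨g, hgX⟩ : X) ∈ f.range := hTeq ▸ htop ▸ mem_top _
    obtain ⟨s, hs⟩ := hmem
    have h3 : f (s * QDFusion.aa x m * s⁻¹) = f (x ^ (1 : ℤ) * y) := by
      rw [map_mul, map_mul, map_inv, hs]
      show QuotientGroup.mk' O (⟨g, hgX⟩ : X) * QuotientGroup.mk' O (inclusion hSX _) *
        (QuotientGroup.mk' O (⟨g, hgX⟩ : X))⁻¹ = QuotientGroup.mk' O (inclusion hSX _)
      rw [← map_inv, ← map_mul, ← map_mul]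
      exact congrArg _ (Subtype.ext hg)
    exact hqd.zpow_conj_ne s (hf h3)
  have hc1 : QuotientGroup.mk' O cX ≠ 1 := fun q => by
    have := hodd2 cX ((QuotientGroup.eq_one_iff _).1 q) 1 (Subtype.ext (by
      rw [pow_one, SubgroupClass.coe_pow, sq]; exact hcc))
    have h2 : c = 1 := congrArg Subtype.val this
    rw [h2, orderOf_one] at hc2
    omega
  have hcent : ∀ w : X, w * cX = cX * w := fun w => Subtype.ext (mem_centralizer_singleton_iff.1 w.2)
  have hcentq : ∀ w : X ⧸ O, w * QuotientGroup.mk' O cX = QuotientGroup.mk' O cX * w := fun w => by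
    obtain ⟨w, rfl⟩ := QuotientGroup.mk'_surjective O w
    rw [← map_mul, ← map_mul, hcent]
  have hOO : Cfsg.oddCore (X ⧸ O) = ⊥ := PCore.pPrimeCore_quotient_self_eq_bot
  obtain ⟨φ⟩ := quotient_shape inferInstance hOO T hTqd hne hcentq hc1
    (by rw [← map_mul, show cX * cX = 1 from Subtype.ext hcc, map_one])
    (b := QuotientGroup.mk' O bX) (by rw [← map_mul, show bX * bX = 1 from Subtype.ext hb2, map_one])
    (fun q => by
      have := hodd2 bX ((QuotientGroup.eq_one_iff _).1 q) 1 (Subtype.ext (by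
        rw [pow_one, SubgroupClass.coe_pow, sq]; exact hb2))
      exact hb1 (congrArg Subtype.val this))
    (fun q => by
      have h1 : cX⁻¹ * bX ∈ O := QuotientGroup.eq.1 q.symm
      have hci : c⁻¹ = c := inv_eq_of_mul_eq_one_left hcc
      have := hodd2 _ h1 1 (Subtype.ext (by
        rw [pow_one, SubgroupClass.coe_pow, sq]
        show c⁻¹ * b * (c⁻¹ * b) = 1
        exact hV2 _ (mul_mem (inv_mem hcV) hbV)))
      exact hbc (inv_mul_eq_one.1 (congrArg Subtype.val this)).symm)
  let π : X →* M := (φ.trans toGL.symm).toMonoidHom.comp (QuotientGroup.mk' O)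
  have hker : π.ker = O := by
    rw [← MonoidHom.comap_ker, (MonoidHom.ker_eq_bot_iff _).2 (φ.trans toGL.symm).injective,
      MonoidHom.comap_bot, QuotientGroup.ker_mk']
  have hsurj : Function.Surjective π := (φ.trans toGL.symm).surjective.comp (QuotientGroup.mk'_surjective O)
  have hπc : π cX = z := by
    refine z_unique _ (fun v => ?_) ?_ ?_
    · obtain ⟨w, rfl⟩ := hsurj v
      rw [← map_mul, ← map_mul, hcent w]
    · rw [← map_mul, show cX * cX = 1 from Subtype.ext hcc, map_one]
    · intro q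
      exact hc1 ((φ.trans toGL.symm).injective (q.trans (map_one _).symm))
  have hkodd : Odd (Nat.card π.ker) := hker ▸ hOodd
  -- every involution of `X` other than `c` inverts `O`
  have hinv : ∀ u : X, u * u = 1 → u ≠ 1 → u ≠ cX → ∀ o ∈ π.ker, u * o * u⁻¹ = o⁻¹ := by
    intro u hu hu1 huc o ho
    have hfix : ∀ w : π.ker, (u : X) * w = w * u → w = 1 := by
      intro w hw
      set W : Subgroup G := closure ({c, (u : G)} : Set G)
      have hu2 : (u : G) * u = 1 := congrArg Subtype.val hu
      have hW : IsKleinFour W := FTConsumersB.isKleinFour_closure_pair hc2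
        (orderOf_eq_prime (by rw [sq]; exact hu2) fun q => hu1 (Subtype.ext q))
        (fun q => huc (Subtype.ext q.symm)) (mem_centralizer_singleton_iff.1 u.2).symm
      have hwW : ((w : X) : G) ∈ centralizer (W : Set G) := by
        rw [centralizer_closure]
        refine mem_centralizer_iff.2 ?_
        rintro v (rfl | rfl)
        · exact (mem_centralizer_singleton_iff.1 (w : X).2).symm
        · exact congrArg Subtype.val hw
      have h4 := cent_four S hS V hV hVS hCV W hW
      have h1 : orderOf w ∣ 2 ^ 2 := by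
        rw [← Subgroup.orderOf_coe, ← Subgroup.orderOf_coe, ← orderOf_mk _ hwW, show 2 ^ 2 = 4 from rfl, ← h4]
        exact orderOf_dvd_natCard _
      exact orderOf_eq_one_iff.1 (Nat.eq_one_of_dvd_coprimes
        (Nat.Coprime.pow_left 2 (Nat.coprime_two_left.2 hkodd)) h1 (orderOf_dvd_natCard w))
    let ψ : π.ker →* π.ker := (MulAut.conjNormal (H := π.ker) u).toMonoidHom
    have hinv2 : Function.Involutive ψ := fun w => Subtype.ext (by
      show u * (u * (w : X) * u⁻¹) * u⁻¹ = w
      rw [show u * (u * (w : X) * u⁻¹) * u⁻¹ = u * u * w * (u * u)⁻¹ by group, hu]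
      simp)
    have hfpf : MonoidHom.FixedPointFree ψ := fun w hw =>
      hfix w (mul_inv_eq_iff_eq_mul.1 (congrArg Subtype.val hw))
    exact congrArg Subtype.val (congrFun (hfpf.coe_eq_inv_of_involutive hinv2) ⟨o, ho⟩)
  have hcomm : ∀ o ∈ π.ker, ∀ o' ∈ π.ker, o * o' = o' * o := by
    intro o ho o' ho'
    have hbi := hinv bX (Subtype.ext hb2) (fun q => hb1 (congrArg Subtype.val q))
      (fun q => hbc (congrArg Subtype.val q))
    have h1 := hbi _ (mul_mem ho ho')
    rw [show bX * (o * o') * bX⁻¹ = (bX * o * bX⁻¹) * (bX * o' * bX⁻¹) by group, hbi o ho, hbi o' ho',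
      ← mul_inv_rev] at h1
    exact inv_injective h1.symm
  have hrefl : ∀ w : X, π w * π w = 1 → dt (π w) = 2 → ∀ o ∈ π.ker, w * o * w⁻¹ = o⁻¹ := by
    intro w hw2 hw o ho
    have hsq : w * w ∈ π.ker := by rw [MonoidHom.mem_ker, map_mul, hw2]
    obtain ⟨k, hk⟩ := hkodd
    set u := w ^ (Nat.card π.ker) with hu
    have hu2 : u * u = 1 := by
      rw [hu, ← pow_add, ← two_mul, pow_mul, sq]
      exact congrArg Subtype.val (pow_card_eq_one' (x := (⟨w * w, hsq⟩ : π.ker)))
    have hπu : π u = π w := by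
      rw [hu, map_pow, hk, pow_succ, pow_mul, sq, hw2, one_pow, one_mul]
    have hu1 : u ≠ 1 := fun q => by
      rw [q, map_one] at hπu; rw [← hπu] at hw; revert hw; decide
    have huc : u ≠ cX := fun q => by
      rw [q, hπc] at hπu; rw [← hπu] at hw; revert hw; decide
    have hd : u⁻¹ * w ∈ π.ker := by rw [MonoidHom.mem_ker, map_mul, map_inv, hπu, inv_mul_cancel]
    have h1 := hinv u hu2 hu1 huc o ho
    calc w * o * w⁻¹ = u * ((u⁻¹ * w) * o * (u⁻¹ * w)⁻¹) * u⁻¹ := by group
      _ = u * o * u⁻¹ := by rw [hcomm _ hd o ho, mul_inv_cancel_right]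
      _ = o⁻¹ := h1
  have hcentral : ∀ w, dt (π w) = 1 → ∀ o ∈ π.ker, w * o = o * w := by
    intro w hw o ho
    have key : ∀ h : M, dt h = 1 → ∃ p : M, p * p = 1 ∧ dt p = 2 ∧ (p * h) * (p * h) = 1 ∧ dt (p * h) = 2 := by
      decide +kernel
    obtain ⟨p, hp1, hp2, hp3, hp4⟩ := key _ hw
    obtain ⟨p', rfl⟩ := hsurj p
    rw [← map_mul] at hp3 hp4
    have e1 := hrefl p' hp1 hp2 o⁻¹ (inv_mem ho)
    have e2 := hrefl (p' * w) hp3 hp4 o ho
    rw [show p' * w * o * (p' * w)⁻¹ = p' * (w * o * w⁻¹) * p'⁻¹ by group] at e2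
    rw [inv_inv] at e1
    have e3 : p' * (w * o * w⁻¹) * p'⁻¹ = p' * o * p'⁻¹ := by
      rw [e2, show p' * o * p'⁻¹ = (p' * o⁻¹ * p'⁻¹)⁻¹ by group, e1]
    exact mul_inv_eq_iff_eq_mul.1 (mul_left_cancel (mul_right_cancel e3))
  have hinverts : ∀ w, dt (π w) ≠ 1 → ∀ o ∈ π.ker, w * o * w⁻¹ = o⁻¹ := by
    intro w hw o ho
    have key : ∀ h : M, dt h ≠ 1 → dt (s₀ * h) = 1 := by decide +kernel
    obtain ⟨s', hs'⟩ := hsurj s₀
    have e1 := hcentral (s' * w) (by rw [map_mul, hs']; exact key _ hw) o ho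
    have e2 := hrefl s' (by rw [hs', s₀_facts.1]) (by rw [hs']; decide) o⁻¹ (inv_mem ho)
    rw [inv_inv] at e2
    have e3 : s'⁻¹ * o * s' = o⁻¹ := by
      conv_lhs => rw [← e2]
      group
    calc w * o * w⁻¹ = s'⁻¹ * ((s' * w) * o * (s' * w)⁻¹) * s' := by group
      _ = s'⁻¹ * o * s' := by rw [e1, mul_inv_cancel_right]
      _ = o⁻¹ := e3
  refine ⟨⟨c, hc2, π, hsurj, hπc, hkodd, hcentral, hinverts, hone, ?_⟩⟩
  obtain ⟨n, hn, hcard, -⟩ := hS
  have h48 : Nat.card (X ⧸ O) = 48 := by
    rw [Nat.card_congr (φ.trans toGL.symm).toEquiv, Nat.card_eq_fintype_card, card_M]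
  have hd : 2 ^ (n + 1) ∣ 48 := by
    rw [← hcard, ← h48, Nat.card_congr eT.toEquiv]
    exact card_subgroup_dvd_card _
  have hn4 : n = 3 := by
    by_contra hne
    exact absurd ((pow_dvd_pow 2 (show 5 ≤ n + 1 by omega)).trans hd) (by norm_num)
  rw [hn4, Sylow.card_eq_multiplicity] at hcard
  exact Nat.pow_right_injective le_rfl hcard

end Cfsg.Agent.SuborbitThree
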