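import Cfsg.Agent.Lib.CharInt.Burnside

/-!
Many commuting pairs force solvability; a group with an automorphism of order two fixing at most two
elements has many commuting pairs.
-/

set_option autoImplicit false
set_option linter.style.haveILetI false
set_option linter.unusedSectionVars false

namespace Cfsg.Agent.SuborbitThree

open Subgroup

universe u

/-- The number of commuting pairs. -/
noncomputable def commPairs (G : Type u) [Group G] : ℕ := Nat.card {p : G × G // p.1 * p.2 = p.2 * p.1}

section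
variable {G : Type u} [Group G] [Finite G]

theorem commPairs_eq_sum [Fintype G] :
    commPairs G = ∑ x : G, Nat.card (centralizer ({x} : Set G)) := by
  classical
  rw [commPairs, ← Nat.card_sigma]
  exact Nat.card_congr
    { toFun := fun p => ⟨p.1.1, p.1.2, mem_centralizer_singleton_iff.2 p.2.symm⟩
      invFun := fun s => ⟨(s.1, s.2.1), (mem_centralizer_singleton_iff.1 s.2.2).symm⟩
      left_inv := fun _ => rfl
      right_inv := fun _ => rfl }

theorem card_le_index_mul (N C : Subgroup G) : Nat.card C ≤ N.index * Nat.card (N.subgroupOf C) := by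
  rw [← card_mul_index (N.subgroupOf C), mul_comm]
  refine Nat.mul_le_mul_right _ ?_
  have h := relIndex_le_of_le_right (H := N) (le_top : C ≤ ⊤) (fun h => index_ne_zero_of_finite h)
  rwa [relIndex_top_right] at h

theorem commPairs_le_subgroup (N : Subgroup G) :
    commPairs G ≤ N.index ^ 2 * commPairs N := by
  classical
  haveI := Fintype.ofFinite G
  rw [commPairs_eq_sum, commPairs_eq_sum, Finset.mul_sum]
  have h1 : ∑ x : G, Nat.card (centralizer ({x} : Set G)) ≤
      N.index * ∑ n : N, Nat.card (centralizer ({(n : G)} : Set G)) := by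
    calc ∑ x : G, Nat.card (centralizer ({x} : Set G))
        ≤ ∑ x : G, N.index * Nat.card (N.subgroupOf (centralizer ({x} : Set G))) :=
          Finset.sum_le_sum fun x _ => card_le_index_mul _ _
      _ = N.index * ∑ n : N, Nat.card (centralizer ({(n : G)} : Set G)) := by
          rw [← Finset.mul_sum, ← Nat.card_sigma, ← Nat.card_sigma]
          congr 1
          exact Nat.card_congr
            { toFun := fun s => ⟨⟨(s.2.1 : G), s.2.2⟩, s.1,
                mem_centralizer_singleton_iff.2 (mem_centralizer_singleton_iff.1 s.2.1.2).symm⟩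
              invFun := fun s => ⟨s.2.1, ⟨⟨(s.1 : G),
                mem_centralizer_singleton_iff.2 (mem_centralizer_singleton_iff.1 s.2.2).symm⟩, s.1.2⟩⟩
              left_inv := fun _ => rfl
              right_inv := fun _ => rfl }
  refine h1.trans ?_
  rw [Finset.mul_sum]
  refine Finset.sum_le_sum fun n _ => ?_
  rw [sq, mul_assoc]
  refine Nat.mul_le_mul_left _ ((card_le_index_mul N _).trans (Nat.mul_le_mul_left _ ?_))
  exact Nat.card_le_card_of_injective
    (fun m : N.subgroupOf (centralizer ({(n : G)} : Set G)) =>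
      (⟨⟨((m : centralizer ({(n : G)} : Set G)) : G), m.2⟩,
        mem_centralizer_singleton_iff.2 (Subtype.ext (mem_centralizer_singleton_iff.1 m.1.2))⟩ :
        centralizer ({n} : Set N)))
    fun m m' h => Subtype.ext (Subtype.ext (congrArg (fun z : centralizer ({n} : Set N) => ((z : N) : G)) h))

theorem commPairs_le_quotient (N : Subgroup G) [N.Normal] :
    commPairs G ≤ Nat.card N ^ 2 * commPairs (G ⧸ N) := by
  classical
  let f : {p : G × G // p.1 * p.2 = p.2 * p.1} →
      (N × N) × {p : (G ⧸ N) × (G ⧸ N) // p.1 * p.2 = p.2 * p.1} := fun p =>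
    ((⟨((p.1.1 : G ⧸ N)).out⁻¹ * p.1.1, by
        rw [← QuotientGroup.eq_one_iff, QuotientGroup.mk_mul, QuotientGroup.mk_inv, QuotientGroup.out_eq',
          inv_mul_cancel]⟩,
      ⟨((p.1.2 : G ⧸ N)).out⁻¹ * p.1.2, by
        rw [← QuotientGroup.eq_one_iff, QuotientGroup.mk_mul, QuotientGroup.mk_inv, QuotientGroup.out_eq',
          inv_mul_cancel]⟩),
     ⟨((p.1.1 : G ⧸ N), (p.1.2 : G ⧸ N)), congrArg (QuotientGroup.mk (s := N)) p.2⟩)
  have hf : Function.Injective f := by
    rintro ⟨⟨a, b⟩, _⟩ ⟨⟨a', b'⟩, _⟩ h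
    have h3 : (a : G ⧸ N) = (a' : G ⧸ N) := congrArg (fun z => z.2.1.1) h
    have h4 : (b : G ⧸ N) = (b' : G ⧸ N) := congrArg (fun z => z.2.1.2) h
    have h1 : ((a : G ⧸ N)).out⁻¹ * a = ((a' : G ⧸ N)).out⁻¹ * a' := congrArg (fun z => (z.1.1 : G)) h
    have h2 : ((b : G ⧸ N)).out⁻¹ * b = ((b' : G ⧸ N)).out⁻¹ * b' := congrArg (fun z => (z.1.2 : G)) h
    rw [h3] at h1
    rw [h4] at h2
    exact Subtype.ext (Prod.ext (mul_left_cancel h1) (mul_left_cancel h2))
  refine (Nat.card_le_card_of_injective f hf).trans_eq ?_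
  rw [Nat.card_prod, Nat.card_prod, sq, commPairs]

end

theorem solvable_small {G : Type u} [Group G] [Finite G] (h : Nat.card G ≤ 24) : Group.IsSolvable G := by
  have hpos : 0 < Nat.card G := Nat.card_pos
  have : ∃ p q a b : ℕ, p.Prime ∧ q.Prime ∧ Nat.card G = p ^ a * q ^ b := by
    interval_cases hc : Nat.card G
    all_goals first
      | exact ⟨2, 3, 0, 0, by norm_num, by norm_num, rfl⟩
      | exact ⟨2, 3, 1, 0, by norm_num, by norm_num, rfl⟩
      | exact ⟨2, 3, 0, 1, by norm_num, by norm_num, rfl⟩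
      | exact ⟨2, 3, 2, 0, by norm_num, by norm_num, rfl⟩
      | exact ⟨5, 2, 1, 0, by norm_num, by norm_num, rfl⟩
      | exact ⟨2, 3, 1, 1, by norm_num, by norm_num, rfl⟩
      | exact ⟨7, 2, 1, 0, by norm_num, by norm_num, rfl⟩
      | exact ⟨2, 3, 3, 0, by norm_num, by norm_num, rfl⟩
      | exact ⟨2, 3, 0, 2, by norm_num, by norm_num, rfl⟩
      | exact ⟨2, 5, 1, 1, by norm_num, by norm_num, rfl⟩
      | exact ⟨11, 2, 1, 0, by norm_num, by norm_num, rfl⟩
      | exact ⟨2, 3, 2, 1, by norm_num, by norm_num, rfl⟩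
      | exact ⟨13, 2, 1, 0, by norm_num, by norm_num, rfl⟩
      | exact ⟨2, 7, 1, 1, by norm_num, by norm_num, rfl⟩
      | exact ⟨3, 5, 1, 1, by norm_num, by norm_num, rfl⟩
      | exact ⟨2, 3, 4, 0, by norm_num, by norm_num, rfl⟩
      | exact ⟨17, 2, 1, 0, by norm_num, by norm_num, rfl⟩
      | exact ⟨2, 3, 1, 2, by norm_num, by norm_num, rfl⟩
      | exact ⟨19, 2, 1, 0, by norm_num, by norm_num, rfl⟩
      | exact ⟨2, 5, 2, 1, by norm_num, by norm_num, rfl⟩
      | exact ⟨3, 7, 1, 1, by norm_num, by norm_num, rfl⟩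
      | exact ⟨2, 11, 1, 1, by norm_num, by norm_num, rfl⟩
      | exact ⟨23, 2, 1, 0, by norm_num, by norm_num, rfl⟩
      | exact ⟨2, 3, 3, 1, by norm_num, by norm_num, rfl⟩
  obtain ⟨p, q, a, b, hp, hq, e⟩ := this
  exact CharInt.isSolvable_of_card_eq hp hq e

/-- A group in which at least a quarter of all pairs commute is solvable. -/
theorem isSolvable_of_commPairs : ∀ (n : ℕ) (G : Type u) [Group G] [Finite G], Nat.card G = n →
    Nat.card G ^ 2 ≤ 4 * commPairs G → Group.IsSolvable G := by
  intro n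
  induction n using Nat.strong_induction_on with
  | _ n ih =>
  intro G _ _ hn hP
  classical
  haveI := Fintype.ofFinite G
  by_cases hex : ∃ N : Subgroup G, N.Normal ∧ N ≠ ⊥ ∧ N ≠ ⊤
  · obtain ⟨N, hN, hb, ht⟩ := hex
    haveI := hN
    have hmul := N.card_mul_index
    have hN1 : 1 < Nat.card N := (one_lt_card_iff_ne_bot N).2 hb
    have hI1 : 1 < N.index := one_lt_index_of_ne_top ht
    haveI : Group.IsSolvable N := by
      refine ih (Nat.card N) ?_ N rfl ?_
      · rw [← hn, ← hmul]; exact lt_mul_of_one_lt_right (by omega) hI1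
      · have h1 := hP.trans (Nat.mul_le_mul_left 4 (commPairs_le_subgroup N))
        rw [← hmul] at h1
        refine le_of_mul_le_mul_left (a := N.index ^ 2) ?_ (pow_pos (Nat.pos_of_ne_zero index_ne_zero_of_finite) 2)
        calc N.index ^ 2 * Nat.card N ^ 2 = (Nat.card N * N.index) ^ 2 := by ring
          _ ≤ _ := h1
          _ = N.index ^ 2 * (4 * commPairs N) := by ring
    haveI : Group.IsSolvable (G ⧸ N) := by
      refine ih (Nat.card (G ⧸ N)) ?_ (G ⧸ N) rfl ?_
      · rw [← hn, ← hmul, show Nat.card (G ⧸ N) = N.index from rfl]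
        exact lt_mul_of_one_lt_left (by omega) hN1
      · have h1 := hP.trans (Nat.mul_le_mul_left 4 (commPairs_le_quotient N))
        rw [← hmul, show N.index = Nat.card (G ⧸ N) from rfl] at h1
        refine le_of_mul_le_mul_left (a := Nat.card N ^ 2) ?_ (pow_pos Nat.card_pos 2)
        calc Nat.card N ^ 2 * Nat.card (G ⧸ N) ^ 2 = (Nat.card N * Nat.card (G ⧸ N)) ^ 2 := by ring
          _ ≤ _ := h1
          _ = Nat.card N ^ 2 * (4 * commPairs (G ⧸ N)) := by ring
    exact Group.isSolvable_of_ker_le_range N.subtype (QuotientGroup.mk' N)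
      (by rw [QuotientGroup.ker_mk', range_subtype])
  push Not at hex
  by_cases hsmall : Nat.card G ≤ 24
  · exact solvable_small hsmall
  by_cases hcomm : ∀ a b : G, a * b = b * a
  · exact Group.isSolvable_of_comm hcomm
  exfalso
  have hZ : ∀ x : G, x ≠ 1 → centralizer ({x} : Set G) ≠ ⊤ := by
    intro x hx h
    by_cases hc : center G = ⊤
    · exact hcomm fun a b => (mem_center_iff.1 (hc.ge (mem_top a)) b).symm
    · have hb : center G = ⊥ := by
        by_contra hne
        exact hc (hex _ inferInstance hne)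
      have : x ∈ center G := mem_center_iff.2 fun g =>
        mem_centralizer_singleton_iff.1 (h.ge (mem_top g))
      rw [hb, mem_bot] at this
      exact hx this
  have hbig : ∀ x : G, x ≠ 1 → 5 * Nat.card (centralizer ({x} : Set G)) ≤ Nat.card G := by
    intro x hx
    set C := centralizer ({x} : Set G)
    rw [← C.card_mul_index, mul_comm]
    refine Nat.mul_le_mul_left _ ?_
    by_contra hlt
    haveI : Fintype (G ⧸ C) := Fintype.ofFinite _
    have hker : C.normalCore = ⊥ := by
      by_contra hne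
      exact hZ x hx (top_le_iff.1 (hex _ inferInstance hne ▸ C.normalCore_le))
    have h1 : Nat.card G ∣ Nat.card (Equiv.Perm (G ⧸ C)) := by
      refine card_dvd_of_injective (MulAction.toPermHom G (G ⧸ C)) ?_
      rw [← MonoidHom.ker_eq_bot_iff, ← Subgroup.normalCore_eq_ker]
      exact hker
    rw [Nat.card_perm, show Nat.card (G ⧸ C) = C.index from rfl] at h1
    have h2 := Nat.le_of_dvd (Nat.factorial_pos _) h1
    have h3 : C.index.factorial ≤ (4 : ℕ).factorial := Nat.factorial_le (by omega)
    rw [show (4 : ℕ).factorial = 24 from rfl] at h3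
    omega
  have hsum : 5 * commPairs G ≤ 5 * Nat.card G + Nat.card G * Nat.card G := by
    rw [commPairs_eq_sum, ← Finset.add_sum_erase _ _ (Finset.mem_univ (1 : G)), mul_add, Finset.mul_sum]
    refine Nat.add_le_add ?_ ?_
    · exact Nat.mul_le_mul_left 5 (Nat.le_of_dvd Nat.card_pos (card_subgroup_dvd_card _))
    · calc ∑ x ∈ Finset.univ.erase (1 : G), 5 * Nat.card (centralizer ({x} : Set G))
          ≤ ∑ _x ∈ Finset.univ.erase (1 : G), Nat.card G :=
            Finset.sum_le_sum fun x hx => hbig x (Finset.ne_of_mem_erase hx)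
        _ ≤ Nat.card G * Nat.card G := by
            rw [Finset.sum_const, smul_eq_mul, Nat.card_eq_fintype_card]
            exact Nat.mul_le_mul_right _ (Finset.card_le_univ _)
  nlinarith

/-- An involution normalising `L` and fixing at most two of its elements forces solvability. -/
theorem isSolvable_of_invol {G : Type u} [Group G] [Finite G] (L : Subgroup G) {b : G} (hb : b * b = 1)
    (hn : b ∈ normalizer (L : Set G)) (hC : Nat.card (L ⊓ centralizer ({b} : Set G) : Subgroup G) ≤ 2) :
    Group.IsSolvable L := by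
  classical
  haveI := Fintype.ofFinite G
  refine isSolvable_of_commPairs (Nat.card L) L rfl ?_
  set C : Subgroup G := L ⊓ centralizer ({b} : Set G) with hCdef
  have hbinv : b⁻¹ = b := inv_eq_of_mul_eq_one_left hb
  have hmem : ∀ l₁ l₂ : L, (l₁ : G) * b * (l₁ : G)⁻¹ * ((l₂ : G) * b * (l₂ : G)⁻¹) ∈ L := by
    intro l₁ l₂
    have h1 : b * ((l₁ : G)⁻¹ * l₂) * b⁻¹ ∈ L :=
      (mem_normalizer_iff.1 hn _).1 (mul_mem (inv_mem l₁.2) l₂.2)
    have := mul_mem (mul_mem l₁.2 h1) (inv_mem l₂.2)
    rw [hbinv] at this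
    simpa [mul_assoc] using this
  -- representatives of conjugates
  let rep : G → L := fun u => if hu : ∃ l : L, (l : G) * b * (l : G)⁻¹ = u then hu.choose else 1
  have hrep : ∀ l : L, (rep ((l : G) * b * (l : G)⁻¹) : G) * b * (rep ((l : G) * b * (l : G)⁻¹) : G)⁻¹ =
      (l : G) * b * (l : G)⁻¹ := by
    intro l
    have hu : ∃ m : L, (m : G) * b * (m : G)⁻¹ = (l : G) * b * (l : G)⁻¹ := ⟨l, rfl⟩
    simp only [rep, dif_pos hu]
    exact hu.choose_spec
  have hdiff : ∀ l : L, (rep ((l : G) * b * (l : G)⁻¹) : G)⁻¹ * l ∈ C := by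
    intro l
    refine mem_inf.2 ⟨mul_mem (inv_mem (rep _).2) l.2, mem_centralizer_singleton_iff.2 ?_⟩
    have := hrep l
    calc (rep ((l : G) * b * (l : G)⁻¹) : G)⁻¹ * l * b
        = (rep ((l : G) * b * (l : G)⁻¹) : G)⁻¹ * ((l : G) * b * (l : G)⁻¹) * l := by group
      _ = (rep ((l : G) * b * (l : G)⁻¹) : G)⁻¹ * ((rep ((l : G) * b * (l : G)⁻¹) : G) * b *
            (rep ((l : G) * b * (l : G)⁻¹) : G)⁻¹) * l := by rw [this]
      _ = _ := by group
  -- a reference inverter for each product
  let g : L × L → L := fun p => ⟨_, hmem p.1 p.2⟩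
  let ref : L → L := fun x => if hx : ∃ p : L × L, g p = x then hx.choose.1 else 1
  let u : L → G := fun l => (l : G) * b * (l : G)⁻¹
  have hu2 : ∀ l, u l * u l = 1 := fun l => by
    simp only [u]
    rw [show (l : G) * b * (l : G)⁻¹ * ((l : G) * b * (l : G)⁻¹) = (l : G) * (b * b) * (l : G)⁻¹ by group, hb]
    group
  have hinv : ∀ p : L × L, u p.1 * (g p : G) * u p.1 = (g p : G)⁻¹ := fun p => by
    show u p.1 * (u p.1 * u p.2) * u p.1 = (u p.1 * u p.2)⁻¹
    rw [← mul_assoc (u p.1), hu2, one_mul, mul_inv_rev, inv_eq_of_mul_eq_one_left (hu2 p.1),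
      inv_eq_of_mul_eq_one_left (hu2 p.2)]
  have hmem2 : ∀ l m : L, u l * u m ∈ L := hmem
  let f : L × L → {q : L × L // q.1 * q.2 = q.2 * q.1} × (C × C) := fun p =>
    (⟨(g p, ⟨_, hmem2 (ref (g p)) p.1⟩), by
      have hx : ∃ p' : L × L, g p' = g p := ⟨p, rfl⟩
      have href : ref (g p) = hx.choose.1 := by simp only [ref, dif_pos hx]
      have h1 := hinv hx.choose
      rw [hx.choose_spec, ← href] at h1
      have h2 := hinv p
      refine Subtype.ext ?_
      show (g p : G) * (u (ref (g p)) * u p.1) = u (ref (g p)) * u p.1 * (g p : G)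
      set a := u (ref (g p))
      set c := u p.1
      have ha := hu2 (ref (g p))
      have hc := hu2 p.1
      calc (g p : G) * (a * c) = a * (a * (g p : G) * a) * c := by
            rw [show a * (a * (g p : G) * a) * c = a * a * (g p : G) * (a * c) by group, ha, one_mul]
        _ = a * (c * (g p : G) * c) * c := by rw [h1, h2]
        _ = a * c * (g p : G) := by
            rw [show a * (c * (g p : G) * c) * c = a * c * (g p : G) * (c * c) by group, hc, mul_one]⟩,
      (⟨_, hdiff p.1⟩, ⟨_, hdiff p.2⟩))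
  have hf : Function.Injective f := by
    rintro ⟨a, a'⟩ ⟨b', b''⟩ h
    simp only [f, Prod.mk.injEq, Subtype.mk.injEq] at h
    obtain ⟨⟨hg, hh⟩, hc1, hc2⟩ := h
    rw [hg] at hh
    have hu1 : u a = u b' := mul_left_cancel hh
    have hu2' : u a' = u b'' := by
      have := congrArg Subtype.val hg
      simp only [g] at this
      change u a * u a' = u b' * u b'' at this
      rw [hu1] at this
      exact mul_left_cancel this
    simp only [u] at hu1 hu2'
    rw [hu1] at hc1
    rw [hu2'] at hc2
    exact Prod.ext (Subtype.ext (mul_left_cancel hc1)) (Subtype.ext (mul_left_cancel hc2))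
  have h1 := Nat.card_le_card_of_injective f hf
  rw [Nat.card_prod, Nat.card_prod, Nat.card_prod] at h1
  rw [sq, commPairs]
  calc Nat.card L * Nat.card L ≤ _ := h1
    _ ≤ Nat.card {q : L × L // q.1 * q.2 = q.2 * q.1} * (2 * 2) := Nat.mul_le_mul_left _ (Nat.mul_le_mul hC hC)
    _ = _ := by ring

end Cfsg.Agent.SuborbitThree
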